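import Groth.Agent.CohBase.Kunneth.TensorTot
import Groth.Agent.CohBase.FlatCohBaseChange

/-!
# The Künneth formula over an affine base
-/

set_option autoImplicit false

universe u

open CategoryTheory Limits AlgebraicGeometry TopologicalSpace HomologicalComplex
open scoped TensorProduct
open Groth.HTorLib (Z cl cl_surjective cl_eq_zero_iff cl_eq_zero_iff' subsingleton_homology_of_isZero
  mem_Z kun kun_bijective)

namespace Groth.CohBase.Kunneth

open Groth.FlatCxBase CxRank

variable {A : Type u} [CommRing A]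

/-- The homology of a complex as the kernel of the differential out of the cokernel. -/
theorem nonempty_homology_equiv_Hk (L : DRing.Cx A) (j : ℤ) :
    Nonempty (L.homology j ≃ₗ[A] Hk L j) := by
  have hz : ∀ z : Z L j, cokerπ L (j - 1) j z.1 ∈ LinearMap.ker (dq L j) := fun z =>
    LinearMap.mem_ker.2 ((LinearMap.congr_fun (dBar_comp L (j - 1) j (j + 1)) z.1).trans z.2)
  let g : Z L j →ₗ[A] Hk L j :=
    ((cokerπ L (j - 1) j).comp (Z L j).subtype).codRestrict _ hz
  have hg : Function.Surjective g := by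
    rintro ⟨q, hq⟩
    obtain ⟨x, rfl⟩ := Submodule.mkQ_surjective _ q
    exact ⟨⟨x, (LinearMap.congr_fun (dBar_comp L (j - 1) j (j + 1)) x).symm.trans hq⟩, rfl⟩
  have hker : LinearMap.ker g = LinearMap.ker (cl L j) := by
    ext z
    refine Iff.trans ?_ (cl_eq_zero_iff L j z).symm
    exact (Iff.trans ⟨fun h => congrArg Subtype.val h, fun h => Subtype.ext h⟩
      (Submodule.Quotient.mk_eq_zero _))
  exact ⟨CxRank.equivOfKerEq (cl L j) g (cl_surjective L j) hg hker⟩

variable (A) {X : Scheme.{u}} [X.Over (Spec (CommRingCat.of A))]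

/-- Cohomology as the homology of the Čech complex. -/
theorem nonempty_homology_cxA_equiv_HH (G : GoodCover X) (F : X.Modules) [F.IsQuasicoherent]
    (p : ℕ) : Nonempty ((cxA A G.U F).homology (p : ℤ) ≃ₗ[A] Coh.HH X F p) := by
  obtain ⟨e⟩ := nonempty_homology_equiv_Hk (cxA A G.U F) p
  exact ⟨e.trans ((tOneEquiv (cxA A G.U F) (p : ℤ)).symm.trans (selfLinIso A G F p))⟩

/-- The truncated Čech complex has flat cohomology if the cohomology is flat. -/
theorem flat_homology_trunc [X.IsSeparated] [CompactSpace X] (G : GoodCover X) (F : X.Modules)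
    [F.IsQuasicoherent] (hfl : FlatMod.IsFlatOver (X ↘ Spec (CommRingCat.of A)) F)
    (hH : ∀ p : ℕ, Module.Flat A (Coh.HH X F p)) (N : ℕ) (i : ℤ) :
    Module.Flat A ((trunc (cxA A G.U F) (N : ℤ)).homology i) := by
  have hflat : ∀ i, Module.Flat A ((cxA A G.U F).X i) :=
    flat_cxA A G.U F fun x => flat_secA A F hfl (G.affine x)
  by_cases h0 : i < 0
  · have := subsingleton_trSub (cxA A G.U F) (N : ℤ) (i := i)
    have hs : Subsingleton (trSub (cxA A G.U F) (N : ℤ) i) :=
      have := subsingleton_cxA A G.U F h0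
      inferInstance
    have := subsingleton_homology_of_isZero (trunc (cxA A G.U F) (N : ℤ)) i
      (@ModuleCat.isZero_of_subsingleton A _ _ hs)
    infer_instance
  obtain ⟨p, rfl⟩ : ∃ p : ℕ, i = p := ⟨i.toNat, by omega⟩
  rcases lt_trichotomy (p : ℤ) N with hlt | heq | hgt
  · obtain ⟨e⟩ := nonempty_homology_cxA_equiv_HH A G F p
    have := hH p
    exact Module.Flat.of_linearEquiv ((LinearEquiv.ofBijective _
      (homologyMap_truncπ_bijective (N : ℤ) (cxA A G.U F) hlt)).symm.trans e)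
  · obtain rfl : p = N := by exact_mod_cast heq
    obtain ⟨b, hb⟩ := exists_isZero_T A G F
    have hQ := flat_Qc_of_flat_Hk' (cxA A G.U F) b hb 0 fun i hi => by
      obtain ⟨q, rfl⟩ : ∃ q : ℕ, i = q := ⟨i.toNat, by omega⟩
      have := hH q
      exact Module.Flat.of_linearEquiv
        ((tOneEquiv (cxA A G.U F) (q : ℤ)).symm.trans (selfLinIso A G F q))
    obtain ⟨e⟩ := nonempty_homology_trunc_top (p : ℤ) (cxA A G.U F)
    have := hQ (p : ℤ) (by omega)
    exact Module.Flat.of_linearEquiv e.symm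
  · have := subsingleton_homology_of_isZero (trunc (cxA A G.U F) (N : ℤ)) p
      (vanishesAbove_trunc (cxA A G.U F) N _ hgt)
    infer_instance

variable {A} {X₁ X₂ P : Scheme.{u}}
  [X₁.Over (Spec (CommRingCat.of A))] [X₂.Over (Spec (CommRingCat.of A))]

/-- The Künneth formula over an affine base. -/
theorem nonempty_kunneth [X₁.IsSeparated] [CompactSpace X₁] (G₁ : GoodCover X₁) (G₂ : GoodCover X₂)
    (p₁ : P ⟶ X₁) (p₂ : P ⟶ X₂)
    (hsq : IsPullback p₁ p₂ (X₁ ↘ Spec (CommRingCat.of A)) (X₂ ↘ Spec (CommRingCat.of A)))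
    (F₁ : X₁.Modules) [F₁.IsQuasicoherent] (F₂ : X₂.Modules) [F₂.IsQuasicoherent]
    (hfl : FlatMod.IsFlatOver (X₁ ↘ Spec (CommRingCat.of A)) F₁)
    (hH : ∀ p : ℕ, Module.Flat A (Coh.HH X₁ F₁ p)) (n : ℕ) :
    Nonempty (Coh.HH P (CohB1.tensorMod ((Scheme.Modules.pullback p₁).obj F₁)
        ((Scheme.Modules.pullback p₂).obj F₂)) n ≃+
      DirectSum (Finset.HasAntidiagonal.antidiagonal n) fun pq =>
        TensorProduct A (Coh.HH X₁ F₁ pq.1.1) (Coh.HH X₂ F₂ pq.1.2)) := by
  classical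
  let : P.Over (Spec (CommRingCat.of A)) := ⟨p₁ ≫ X₁ ↘ Spec (CommRingCat.of A)⟩
  have : p₁.IsOver (Spec (CommRingCat.of A)) := ⟨rfl⟩
  have : p₂.IsOver (Spec (CommRingCat.of A)) := ⟨hsq.w.symm⟩
  have := G₁.fin
  have := G₂.fin
  obtain ⟨e₀⟩ := nonempty_homology_tenCx_equiv_HH A p₁ p₂ F₁ F₂ G₁.U G₂.U
    ⟨hsq, G₁.affine, G₂.affine⟩ G₁.hcov G₂.hcov n
  let L := cxA A G₁.U F₁
  let M := cxA A G₂.U F₂
  let N : ℕ := n + 1
  have hL0 : ∀ i < 0, Subsingleton (L.X i) := fun i hi => subsingleton_cxA A G₁.U F₁ hi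
  have hM0 : ∀ i < 0, Subsingleton (M.X i) := fun i hi => subsingleton_cxA A G₂.U F₂ hi
  have hflat : ∀ i, Module.Flat A (L.X i) :=
    flat_cxA A G₁.U F₁ fun x => flat_secA A F₁ hfl (G₁.affine x)
  have hnN : (n : ℤ) < (N : ℤ) := by omega
  let e₁ := LinearEquiv.ofBijective _
    (homologyMap_truncππ_bijective (N : ℤ) hL0 hM0 hnN)
  let e₂ := LinearEquiv.ofBijective _ (kun_bijective (trunc L (N : ℤ)) (trunc M (N : ℤ)) (n : ℤ)
    (termwiseFlat_trunc L N hflat) ⟨_, vanishesAbove_trunc L N⟩ ⟨_, vanishesAbove_trunc M N⟩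
    (flat_homology_trunc A G₁ F₁ hfl hH N))
  let W := fun ij : HTor.Antidiag (n : ℤ) => ((trunc L (N : ℤ)).homology ij.1.1 ⊗[A]
    (trunc M (N : ℤ)).homology ij.1.2 : Type u)
  have hW : Function.Bijective (restrictNat A W) := restrictNat_bijective W fun ij hij => by
    rcases hij with hi | hi
    · have := hL0 _ hi
      have := subsingleton_homology_of_isZero (trunc L (N : ℤ)) ij.1.1
        (@ModuleCat.isZero_of_subsingleton A _ _
          (inferInstanceAs (Subsingleton (trSub L (N : ℤ) ij.1.1))))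
      infer_instance
    · have := hM0 _ hi
      have := subsingleton_homology_of_isZero (trunc M (N : ℤ)) ij.1.2
        (@ModuleCat.isZero_of_subsingleton A _ _
          (inferInstanceAs (Subsingleton (trSub M (N : ℤ) ij.1.2))))
      infer_instance
  have hp : ∀ pq : Finset.HasAntidiagonal.antidiagonal n,
      Nonempty (W (toZ pq) ≃ₗ[A] Coh.HH X₁ F₁ pq.1.1 ⊗[A] Coh.HH X₂ F₂ pq.1.2) := fun pq => by
    have hpq := Finset.HasAntidiagonal.mem_antidiagonal.1 pq.2
    obtain ⟨a⟩ := nonempty_homology_cxA_equiv_HH A G₁ F₁ pq.1.1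
    obtain ⟨b⟩ := nonempty_homology_cxA_equiv_HH A G₂ F₂ pq.1.2
    exact ⟨TensorProduct.congr
      ((LinearEquiv.ofBijective _ (homologyMap_truncπ_bijective (N : ℤ) L
        (n := (pq.1.1 : ℤ)) (by omega))).symm.trans a)
      ((LinearEquiv.ofBijective _ (homologyMap_truncπ_bijective (N : ℤ) M
        (n := (pq.1.2 : ℤ)) (by omega))).symm.trans b)⟩
  let c := fun pq => (hp pq).some
  let e₃ := (LinearEquiv.ofBijective _ hW).trans ((LinearEquiv.piCongrRight c).trans
    (DirectSum.linearEquivFunOnFintype A (Finset.HasAntidiagonal.antidiagonal n)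
      fun pq => Coh.HH X₁ F₁ pq.1.1 ⊗[A] Coh.HH X₂ F₂ pq.1.2).symm)
  exact ⟨e₀.symm.trans (e₁.trans (e₂.symm.trans e₃)).toAddEquiv⟩

end Groth.CohBase.Kunneth
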