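import Groth.Agent.CohBase.CechDerived

/-!
# The double Čech complex of two coverings
-/

set_option autoImplicit false

universe u

open CategoryTheory Limits TopologicalSpace Opposite

namespace Groth.CohBase.Kunneth

variable {X : TopCat.{u}} {ι κ : Type u} (U : ι → Opens X) (V : κ → Opens X)
  (F : TopCat.Presheaf AddCommGrpCat.{u} X)

/-- `O ↦ F(O ⊓ W)`. -/
def infR (W : Opens X) : TopCat.Presheaf AddCommGrpCat.{u} X where
  obj O := F.obj (op (O.unop ⊓ W))
  map f := F.map (homOfLE (inf_le_inf_right W f.unop.le)).op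
  map_id O := by rw [show (homOfLE _).op = 𝟙 _ from rfl, F.map_id]
  map_comp f g := by rw [← F.map_comp]; rfl

/-- `O ↦ F(W ⊓ O)`. -/
def infL (W : Opens X) : TopCat.Presheaf AddCommGrpCat.{u} X where
  obj O := F.obj (op (W ⊓ O.unop))
  map f := F.map (homOfLE (inf_le_inf_left W f.unop.le)).op
  map_id O := by rw [show (homOfLE _).op = 𝟙 _ from rfl, F.map_id]
  map_comp f g := by rw [← F.map_comp]; rfl

/-- Bi-cochains of total degree `n`. -/
abbrev BT (n : ℕ) : Type u :=
  ∀ (p q : ℕ) (_ : PLift (p + q = n)) (x : Fin (p + 1) → ι) (y : Fin (q + 1) → κ),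
    F.obj (op (inter U x ⊓ inter V y))

variable {U V F}

/-- A row of a bi-cochain. -/
abbrev rowC {n : ℕ} (s : BT U V F n) (p q : ℕ) (h : p + q = n) (y : Fin (q + 1) → κ) :
    Coch U (infR F (inter V y)) p :=
  fun x => s p q ⟨h⟩ x y

/-- A column of a bi-cochain. -/
abbrev colC {n : ℕ} (s : BT U V F n) (p q : ℕ) (h : p + q = n) (x : Fin (p + 1) → ι) :
    Coch V (infL F (inter U x)) q :=
  fun y => s p q ⟨h⟩ x y

variable (U V F)

/-- The horizontal part of the differential. -/
def hPart {n : ℕ} (s : BT U V F n) : BT U V F (n + 1)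
  | 0, _, _, _, _ => 0
  | p + 1, q, h, x, y => dCoch U (infR F (inter V y)) p (rowC s p q (by have := h.down; omega) y) x

/-- The vertical part of the differential. -/
def vPart {n : ℕ} (s : BT U V F n) : BT U V F (n + 1)
  | _, 0, _, _, _ => 0
  | p, q + 1, h, x, y => dCoch V (infL F (inter U x)) q (colC s p q (by have := h.down; omega) x) y

lemma hPart_add {n : ℕ} (s t : BT U V F n) : hPart U V F (s + t) = hPart U V F s + hPart U V F t := by
  funext p q h x y
  cases p with
  | zero => exact (add_zero 0).symm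
  | succ p => exact congrFun (map_add (dCoch U (infR F (inter V y)) p) _ _) x

lemma vPart_add {n : ℕ} (s t : BT U V F n) : vPart U V F (s + t) = vPart U V F s + vPart U V F t := by
  funext p q h x y
  cases q with
  | zero => exact (add_zero 0).symm
  | succ q => exact congrFun (map_add (dCoch V (infL F (inter U x)) q) _ _) y

/-- The differential of the total complex. -/
def dT (n : ℕ) : BT U V F n →+ BT U V F (n + 1) :=
  AddMonoidHom.mk' (fun s p q h x y =>
    hPart U V F s p q h x y + ((-1 : ℤ) ^ p) • vPart U V F s p q h x y) fun s t => by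
    funext p q h x y
    rw [hPart_add, vPart_add]
    simp only [Pi.add_apply, smul_add]
    abel

lemma dT_apply {n : ℕ} (s : BT U V F n) (p q : ℕ) (h : PLift (p + q = n + 1)) (x : Fin (p + 1) → ι)
    (y : Fin (q + 1) → κ) : dT U V F n s p q h x y =
      hPart U V F s p q h x y + ((-1 : ℤ) ^ p) • vPart U V F s p q h x y := rfl

/-- Horizontal and vertical differentials commute. -/
lemma cross {n : ℕ} (s : BT U V F n) (p q : ℕ) (h : p + q = n) (x : Fin (p + 2) → ι)
    (y : Fin (q + 2) → κ) :
    dCoch U (infR F (inter V y)) p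
        (fun x' => dCoch V (infL F (inter U x')) q (colC s p q h x') y) x =
      dCoch V (infL F (inter U x)) q
        (fun y' => dCoch U (infR F (inter V y')) p (rowC s p q h y') x) y := by
  rw [dCoch_apply, dCoch_apply]
  let T := F.obj (op (inter U x ⊓ inter V y))
  let term : Fin (p + 2) → Fin (q + 2) → T := fun a b =>
    Groth.CohBase.res F (inf_le_inf (inter_comp U x a.succAbove) (inter_comp V y b.succAbove))
      (s p q ⟨h⟩ (x ∘ a.succAbove) (y ∘ b.succAbove))
  trans ∑ a : Fin (p + 2), ∑ b : Fin (q + 2), ((-1 : ℤ) ^ (a : ℕ)) • ((-1 : ℤ) ^ (b : ℕ)) • term a b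
  · refine Finset.sum_congr rfl fun a _ => ?_
    rw [dCoch_apply]
    refine (congrArg (((-1 : ℤ) ^ (a : ℕ)) • ·) (map_sum (Groth.CohBase.res F
      (inf_le_inf_right (inter V y) (inter_comp U x a.succAbove))) _ _)).trans ?_
    refine (map_sum (DistribSMul.toAddMonoidHom T ((-1 : ℤ) ^ (a : ℕ))) _ _).trans ?_
    refine Finset.sum_congr rfl fun b _ => congrArg (fun z : T => ((-1 : ℤ) ^ (a : ℕ)) • z) ?_
    refine (map_zsmul (Groth.CohBase.res F
      (inf_le_inf_right (inter V y) (inter_comp U x a.succAbove))) _ _).trans ?_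
    exact congrArg (((-1 : ℤ) ^ (b : ℕ)) • ·) (res_res F _ _ _)
  rw [Finset.sum_comm]
  refine Finset.sum_congr rfl fun b _ => ?_
  rw [dCoch_apply]
  refine Eq.trans ?_ (congrArg (((-1 : ℤ) ^ (b : ℕ)) • ·) (map_sum (Groth.CohBase.res F
    (inf_le_inf_left (inter U x) (inter_comp V y b.succAbove))) _ _)).symm
  refine Eq.trans ?_ (map_sum (DistribSMul.toAddMonoidHom T ((-1 : ℤ) ^ (b : ℕ))) _ _).symm
  refine Finset.sum_congr rfl fun a _ => ?_
  refine (smul_comm (M := ℤ) (N := ℤ) (α := T) _ _ _).trans
    (congrArg (fun z : T => ((-1 : ℤ) ^ (b : ℕ)) • z) ?_)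
  refine Eq.trans ?_ (map_zsmul (Groth.CohBase.res F
    (inf_le_inf_left (inter U x) (inter_comp V y b.succAbove))) _ _).symm
  exact congrArg (((-1 : ℤ) ^ (a : ℕ)) • ·) (res_res F _ _ _).symm

lemma hPart_hPart {n : ℕ} (s : BT U V F n) :
    hPart U V F (hPart U V F s) = 0 := by
  funext p q h x y
  match p with
  | 0 => rfl
  | 1 => exact congrFun (map_zero (dCoch U (infR F (inter V y)) 0)) x
  | p + 2 => exact congrFun (dCoch_dCoch U (infR F (inter V y)) (rowC s p q (by have := h.down; omega) y)) x

lemma vPart_vPart {n : ℕ} (s : BT U V F n) :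
    vPart U V F (vPart U V F s) = 0 := by
  funext p q h x y
  match q with
  | 0 => rfl
  | 1 => exact congrFun (map_zero (dCoch V (infL F (inter U x)) 0)) y
  | q + 2 => exact congrFun (dCoch_dCoch V (infL F (inter U x)) (colC s p q (by have := h.down; omega) x)) y

lemma dT_dT {n : ℕ} (s : BT U V F n) : dT U V F (n + 1) (dT U V F n s) = 0 := by
  funext p q h x y
  have hh : hPart U V F (dT U V F n s) p q h x y =
      hPart U V F (hPart U V F s) p q h x y -
        ((-1 : ℤ) ^ p) • hPart U V F (vPart U V F s) p q h x y := by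
    cases p with
    | zero => simp [hPart]
    | succ p =>
      change dCoch U (infR F (inter V y)) p (rowC (hPart U V F s) p q (by have := h.down; omega) y +
        ((-1 : ℤ) ^ p) • rowC (vPart U V F s) p q (by have := h.down; omega) y) x = _
      rw [map_add, map_zsmul]
      rw [pow_succ, mul_neg, mul_one, neg_smul, sub_neg_eq_add]
      rfl
  have hv : vPart U V F (dT U V F n s) p q h x y =
      vPart U V F (hPart U V F s) p q h x y +
        ((-1 : ℤ) ^ p) • vPart U V F (vPart U V F s) p q h x y := by
    cases q with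
    | zero => simp [vPart]
    | succ q =>
      change dCoch V (infL F (inter U x)) q (colC (hPart U V F s) p q (by have := h.down; omega) x +
        ((-1 : ℤ) ^ p) • colC (vPart U V F s) p q (by have := h.down; omega) x) y = _
      rw [map_add, map_zsmul]
      rfl
  have hc : hPart U V F (vPart U V F s) p q h x y = vPart U V F (hPart U V F s) p q h x y := by
    match p, q with
    | 0, 0 => rfl
    | 0, q + 1 =>
      exact (congrFun (map_zero (dCoch V (infL F (inter U x)) q)) y).symm
    | p + 1, 0 =>
      exact congrFun (map_zero (dCoch U (infR F (inter V y)) p)) x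
    | p + 1, q + 1 => exact cross U V F s p q (by have := h.down; omega) x y
  rw [dT_apply, hh, hv, hPart_hPart, vPart_vPart, hc]
  simp

/-- The total Čech complex of two coverings. -/
noncomputable def biCx : CochainComplex AddCommGrpCat.{u} ℕ :=
  CochainComplex.of (fun n => AddCommGrpCat.of (BT U V F n))
    (fun n => AddCommGrpCat.ofHom (dT U V F n))
    fun n => AddCommGrpCat.ext fun s => dT_dT U V F s

lemma biCx_d (n : ℕ) : (biCx U V F).d n (n + 1) = AddCommGrpCat.ofHom (dT U V F n) :=
  CochainComplex.of_d (fun n => AddCommGrpCat.of (BT U V F n))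
    (fun n => AddCommGrpCat.ofHom (dT U V F n)) n

variable {U V F} {G : TopCat.Presheaf AddCommGrpCat.{u} X}

/-- The map induced on bi-cochains. -/
def mapBT (φ : F ⟶ G) (n : ℕ) : BT U V F n →+ BT U V G n where
  toFun s p q h x y := φ.app (op (inter U x ⊓ inter V y)) (s p q h x y)
  map_zero' := by funext p q h x y; exact map_zero _
  map_add' s t := by funext p q h x y; exact map_add _ _ _

lemma mapBT_d (φ : F ⟶ G) {n : ℕ} (s : BT U V F n) :
    mapBT φ (n + 1) (dT U V F n s) = dT U V G n (mapBT φ n s) := by
  funext p q h x y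
  change φ.app _ (hPart U V F s p q h x y + ((-1 : ℤ) ^ p) • vPart U V F s p q h x y) = _
  rw [map_add, map_zsmul, dT_apply]
  congr 1
  · cases p with
    | zero => exact map_zero _
    | succ p =>
      rw [hPart, hPart, dCoch_apply, dCoch_apply]
      refine (map_sum (φ.app (op (inter U x ⊓ inter V y))).hom _ _).trans ?_
      refine Finset.sum_congr rfl fun a _ => ?_
      refine (map_zsmul (φ.app (op (inter U x ⊓ inter V y))).hom _ _).trans ?_
      exact congrArg (_ • ·) (res_naturality F φ _ _)
  · congr 1
    cases q with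
    | zero => exact map_zero _
    | succ q =>
      rw [vPart, vPart, dCoch_apply, dCoch_apply]
      refine (map_sum (φ.app (op (inter U x ⊓ inter V y))).hom _ _).trans ?_
      refine Finset.sum_congr rfl fun a _ => ?_
      refine (map_zsmul (φ.app (op (inter U x ⊓ inter V y))).hom _ _).trans ?_
      exact congrArg (_ • ·) (res_naturality F φ _ _)

/-- The map of total complexes induced by a map of presheaves. -/
noncomputable def biMap (φ : F ⟶ G) : biCx U V F ⟶ biCx U V G where
  f n := AddCommGrpCat.ofHom (mapBT φ n)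
  comm' i j hij := by
    obtain rfl : i + 1 = j := hij
    rw [biCx_d, biCx_d]
    exact AddCommGrpCat.ext fun s => (mapBT_d φ s).symm

end Groth.CohBase.Kunneth
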