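import Groth.Agent.CohBase.Kunneth.BiCechExact

/-!
# The double Čech complex computes cohomology
-/

set_option autoImplicit false

universe u

open CategoryTheory Limits TopologicalSpace Opposite
open CategoryTheory.Abelian (Ext)

namespace Groth.CohBase.Kunneth

variable {X : TopCat.{u}} {ι κ : Type u} (U : ι → Opens X) (V : κ → Opens X)

/-- All mixed intersections are acyclic for the sheaf. -/
def BiAcyclic (F : AbSheaf X) : Prop :=
  ∀ ⦃p q : ℕ⦄ (x : Fin (p + 1) → ι) (y : Fin (q + 1) → κ) (m : ℕ),
    HVanish F (m + 1) (inter U x ⊓ inter V y)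

variable {U V}

/-- The short complex of double complexes of a short exact sequence. -/
noncomputable def biShort {S : ShortComplex (AbSheaf X)} :
    ShortComplex (CochainComplex AddCommGrpCat.{u} ℕ) :=
  ShortComplex.mk (biMap (U := U) (V := V) S.f.hom) (biMap (U := U) (V := V) S.g.hom) (by
    ext n s
    funext p q h x y
    exact ConcreteCategory.congr_hom
      (congrArg (fun γ => NatTrans.app γ.hom (op (inter U x ⊓ inter V y))) S.zero) (s p q h x y))

lemma biShort_shortExact {S : ShortComplex (AbSheaf X)} (hS : S.ShortExact)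
    (hF : BiAcyclic U V S.X₁) : (biShort (U := U) (V := V) (S := S)).ShortExact := by
  refine HomologicalComplex.shortExact_of_degreewise_shortExact _ fun n => ?_
  have hinj : Function.Injective (mapBT (U := U) (V := V) S.f.hom n) := fun a b e => by
    funext p q h x y
    exact sections_injective hS _ (congrFun (congrFun (congrFun (congrFun (congrFun e p) q) h) x) y)
  have hsurj : Function.Surjective (mapBT (U := U) (V := V) S.g.hom n) := fun b =>
    ⟨fun p q h x y => (sections_surjective hS (hF x y 0) (b p q h x y)).choose, by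
      funext p q h x y
      exact (sections_surjective hS (hF x y 0) (b p q h x y)).choose_spec⟩
  refine ShortComplex.ShortExact.mk' ?_ ((AddCommGrpCat.mono_iff_injective _).mpr hinj)
    ((AddCommGrpCat.epi_iff_surjective _).mpr hsurj)
  rw [ShortComplex.ab_exact_iff]
  intro (b : BT U V S.X₂.obj n) hb
  have h1 : ∀ p q h x y, ∃ a, S.f.hom.app (op (inter U x ⊓ inter V y)) a = b p q h x y :=
    fun p q h x y => (sections_exact hS _ _).mp
      (congrFun (congrFun (congrFun (congrFun (congrFun hb p) q) h) x) y)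
  choose a ha using h1
  exact ⟨a, by funext p q h x y; exact ha p q h x y⟩

lemma isZero_homology_of_injective (hV : ⨆ l, V l = ⊤) (I : AbSheaf X) [Injective I] (n : ℕ) :
    IsZero ((biCx U V I.obj).homology (n + 1)) := by
  rw [← HomologicalComplex.exactAt_iff_isZero_homology,
    HomologicalComplex.exactAt_iff' _ n (n + 1) (n + 2) (by simp) (by simp),
    ShortComplex.ab_exact_iff]
  intro s hs
  obtain ⟨t, ht⟩ := biExact_of_injective U V I hV s
    ((ConcreteCategory.congr_hom (biCx_d U V I.obj (n + 1)) s).symm.trans hs)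
  exact ⟨t, (ConcreteCategory.congr_hom (biCx_d U V I.obj n) t).trans ht⟩

/-- The first cohomology group through an injective presentation. -/
lemma exists_delta_one {S : ShortComplex (AbSheaf X)} (hS : S.ShortExact) [Injective S.X₂]
    (W : Opens X) : ∃ b : S.X₃.obj.obj (op W) →+ (Sheaf.H' S.X₁ 1 W : Type u),
      Function.Surjective b ∧ ∀ q, q ∈ b.ker ↔ ∃ s, S.g.hom.app (op W) s = q := by
  let b : S.X₃.obj.obj (op W) →+ (Sheaf.H' S.X₁ 1 W : Type u) :=
    (hS.extClass.postcomp (freeOpen W) (zero_add 1)).comp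
      (Ext.addEquiv₀.trans (homFreeOpen W S.X₃)).symm.toAddMonoidHom
  refine ⟨b, fun y => ?_, fun q => ⟨fun hq => ?_, ?_⟩⟩
  · obtain ⟨z, hz⟩ := Ext.covariant_sequence_exact₁ (freeOpen W) hS y
      (Ext.eq_zero_of_injective _) (zero_add 1)
    exact ⟨(Ext.addEquiv₀.trans (homFreeOpen W _)) z,
      (congrArg (hS.extClass.postcomp (freeOpen W) (zero_add 1))
        ((Ext.addEquiv₀.trans (homFreeOpen W S.X₃)).symm_apply_apply z)).trans hz⟩
  · obtain ⟨z, hz⟩ := Ext.covariant_sequence_exact₃ (freeOpen W) hS _ (zero_add 1) hq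
    refine ⟨homFreeOpen W _ (Ext.addEquiv₀ z), ?_⟩
    rw [← homFreeOpen_comp]
    refine Eq.trans (congrArg (homFreeOpen W _) ?_)
      ((Ext.addEquiv₀.trans (homFreeOpen W S.X₃)).apply_symm_apply q)
    refine Eq.trans ?_ (congrArg Ext.addEquiv₀ hz)
    apply (Ext.mk₀_bijective _ _).injective
    rw [← Ext.mk₀_comp_mk₀, Ext.mk₀_addEquiv₀_apply, Ext.mk₀_addEquiv₀_apply]
  · rintro ⟨s, rfl⟩
    change Ext.comp (Ext.mk₀ ((homFreeOpen W _).symm (S.g.hom.app (op W) s)))
      hS.extClass (zero_add 1) = 0
    rw [show (homFreeOpen W _).symm (S.g.hom.app (op W) s) =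
      (homFreeOpen W _).symm s ≫ S.g from (homFreeOpen W _).injective (by
        rw [homFreeOpen_comp, AddEquiv.apply_symm_apply, AddEquiv.apply_symm_apply]),
      ← Ext.mk₀_comp_mk₀, Ext.comp_assoc_of_second_deg_zero, hS.comp_extClass,
      Ext.comp_zero]

/-- The double Čech complex of coverings with acyclic mixed intersections computes cohomology. -/
theorem nonempty_biCech_equiv_H' (hU : ⨆ i, U i = ⊤) (hV : ⨆ l, V l = ⊤) (n : ℕ) :
    ∀ F : AbSheaf X, BiAcyclic U V F →
      Nonempty (((biCx U V F.obj).homology n : Type u) ≃+ (Sheaf.H' F n ⊤ : Type u)) := by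
  have h0 : ∀ F : AbSheaf X, ((biCx U V F.obj).homology 0 : Type u) ≃+ F.obj.obj (op ⊤) :=
    fun F => (AddEquiv.ofBijective (toH0T U V F.obj).hom (toH0T_bijective U V hU hV F)).symm
  have hsh : ∀ (F : AbSheaf X), BiAcyclic U V F →
      (biShort (U := U) (V := V) (S := injPres F)).ShortExact := fun F hF =>
    biShort_shortExact (injPres_shortExact F) hF
  have hIz : ∀ (F : AbSheaf X) (q : ℕ),
      IsZero ((biShort (U := U) (V := V) (S := injPres F)).X₂.homology (q + 1)) := fun F q =>
    isZero_homology_of_injective hV (injPres F).X₂ q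
  have hQ : ∀ (F : AbSheaf X), BiAcyclic U V F → BiAcyclic U V (injPres F).X₃ :=
    fun F hF p q x y m => hVanish_quotient (injPres_shortExact F) (hF x y (m + 1))
  induction n with
  | zero => exact fun F _ => ⟨(h0 F).trans (Ext.addEquiv₀.trans (homFreeOpen ⊤ F)).symm⟩
  | succ n ih =>
    intro F hF
    rcases n with _ | n
    · have hS := injPres_shortExact F
      let a : (injPres F).X₃.obj.obj (op ⊤) →+ ((biCx U V F.obj).homology 1 : Type u) :=
        (toH0T U V (injPres F).X₃.obj ≫ (hsh F hF).δ 0 1 rfl).hom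
      obtain ⟨b, hb, hbker⟩ := exists_delta_one hS ⊤
      refine ⟨addEquivOfSameKer a b ?_ ?_ ?_⟩
      · have : Epi ((hsh F hF).δ 0 1 rfl) := (hsh F hF).epi_δ 0 1 rfl (hIz F 0)
        exact ((AddCommGrpCat.epi_iff_surjective _).mp this).comp
          (toH0T_bijective U V hU hV (injPres F).X₃).2
      · exact hb
      · have e1 : ∀ q, q ∈ a.ker ↔ ∃ s, (injPres F).g.hom.app (op ⊤) s = q := by
          intro q
          constructor
          · intro hq
            obtain ⟨z, hz⟩ := (ShortComplex.ab_exact_iff _).mp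
              ((hsh F hF).homology_exact₃ 0 1 rfl) (toH0T U V (injPres F).X₃.obj q) hq
            obtain ⟨s, rfl⟩ := (toH0T_bijective U V hU hV (injPres F).X₂).2 z
            refine ⟨s, (toH0T_bijective U V hU hV (injPres F).X₃).1 ?_⟩
            exact (ConcreteCategory.congr_hom (toH0T_naturality U V (injPres F).g.hom) s).symm.trans hz
          · rintro ⟨s, rfl⟩
            change ((injPres F).g.hom.app (op ⊤) ≫ toH0T U V (injPres F).X₃.obj ≫ (hsh F hF).δ 0 1 rfl) s = 0
            have hz : (injPres F).g.hom.app (op ⊤) ≫ toH0T U V (injPres F).X₃.obj ≫ (hsh F hF).δ 0 1 rfl = 0 :=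
              (Category.assoc _ _ _).symm.trans
                ((congrArg (· ≫ (hsh F hF).δ 0 1 rfl) (toH0T_naturality U V (injPres F).g.hom).symm).trans
                  ((Category.assoc _ _ _).trans
                    ((congrArg (toH0T U V (injPres F).X₂.obj ≫ ·) ((hsh F hF).comp_δ 0 1 rfl)).trans comp_zero)))
            exact ConcreteCategory.congr_hom hz s
        ext q
        exact (e1 q).trans (hbker q).symm
    · obtain ⟨e⟩ := ih (injPres F).X₃ (hQ F hF)
      exact ⟨(((hsh F hF).δIso (n + 1) (n + 2) rfl (hIz F n)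
        (hIz F (n + 1))).addCommGroupIsoToAddEquiv.symm.trans e).trans
          (equivHShift (injPres_shortExact F) ⊤ n)⟩

end Groth.CohBase.Kunneth
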