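import Groth.Agent.CohBase.Kunneth.BiCech

/-!
# Degree zero of the double Čech complex, and its exactness for injective sheaves
-/

set_option autoImplicit false

universe u

open CategoryTheory Limits TopologicalSpace Opposite

namespace Groth.CohBase.Kunneth

variable {X : TopCat.{u}} {ι κ : Type u} (U : ι → Opens X) (V : κ → Opens X)

section Glue

variable {V} (F : AbSheaf X) (W : Opens X)

lemma inter_single (l : κ) : inter V (fun _ : Fin 1 => l) = V l := inter_one _ _

/-- Sections agreeing on the pieces of a covering are equal. -/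
lemma eq_of_res_eq (hV : ⨆ l, V l = ⊤) {a b : F.obj.obj (op W)}
    (h : ∀ y : Fin 1 → κ, Groth.CohBase.res F.obj (inf_le_left : W ⊓ inter V y ≤ W) a =
      Groth.CohBase.res F.obj inf_le_left b) : a = b := by
  refine TopCat.Sheaf.eq_of_locally_eq' (X := X) F (fun l => W ⊓ inter V (fun _ : Fin 1 => l)) W
    (fun l => homOfLE inf_le_left) ?_ a b fun l => h _
  simp_rw [inter_single, ← inf_iSup_eq, hV, inf_top_eq]
  exact le_rfl

/-- A vertical cocycle of degree zero comes from a section. -/
lemma exists_glue (hV : ⨆ l, V l = ⊤) (c : Coch V (infL F.obj W) 0)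
    (hc : dCoch V (infL F.obj W) 0 c = 0) :
    ∃ g : F.obj.obj (op W), ∀ y, Groth.CohBase.res F.obj (inf_le_left : W ⊓ inter V y ≤ W) g = c y := by
  let v : κ → Opens X := fun l => W ⊓ inter V (fun _ : Fin 1 => l)
  obtain ⟨g, hg, -⟩ := TopCat.Sheaf.existsUnique_gluing' (X := X) F v W
    (fun l => homOfLE inf_le_left) (by
      simp_rw [v, inter_single, ← inf_iSup_eq, hV, inf_top_eq]; exact le_rfl)
    (fun l => c fun _ => l) (by
      intro k l
      have h0 := congrFun hc (Fin.cons k (fun _ => l))
      rw [dCoch_apply, Fin.sum_univ_two] at h0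
      simp only [Fin.val_zero, pow_zero, one_smul, Fin.val_one, pow_one, neg_smul,
        Pi.zero_apply] at h0
      rw [add_neg_eq_zero] at h0
      have hle' : v k ⊓ v l ≤ W ⊓ inter V (Fin.cons k (fun _ : Fin 1 => l)) := by
        rw [inter_cons]
        exact le_inf (inf_le_left.trans inf_le_left)
          (le_inf ((inf_le_left.trans inf_le_right).trans (inter_le V _ 0))
            (inf_le_right.trans inf_le_right))
      have h1 := congrArg (Groth.CohBase.res F.obj hle') h0
      have key : ∀ {a b : Fin 1 → κ} (_ : a = b) {O : Opens X} (ha : O ≤ W ⊓ inter V a)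
          (hb : O ≤ W ⊓ inter V b), Groth.CohBase.res F.obj ha (c a) = Groth.CohBase.res F.obj hb (c b) := by
        rintro a b rfl O ha hb; rfl
      have hk : (fun _ : Fin 1 => k) = (Fin.cons k (fun _ : Fin 1 => l) : Fin 2 → κ) ∘ (1 : Fin 2).succAbove := by
        funext a; fin_cases a; rfl
      have hl : (fun _ : Fin 1 => l) = (Fin.cons k (fun _ : Fin 1 => l) : Fin 2 → κ) ∘ (0 : Fin 2).succAbove := by
        funext a; simp
      refine ((key hk inf_le_left (hle'.trans (inf_le_inf_left W (inter_comp V _ _)))).trans ?_).trans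
        (key hl.symm (hle'.trans (inf_le_inf_left W (inter_comp V _ _))) inf_le_right)
      exact ((res_res F.obj _ _ _).symm.trans (h1.symm.trans (res_res F.obj _ _ _))))
  refine ⟨g, fun y => ?_⟩
  obtain ⟨l, rfl⟩ : ∃ l, y = fun _ => l := ⟨y 0, funext fun a => by rw [Fin.fin_one_eq_zero a]⟩
  exact hg l

end Glue

section Zero

variable (F : TopCat.Presheaf AddCommGrpCat.{u} X)

/-- The augmentation. -/
def augBT : F.obj (op ⊤) →+ BT U V F 0 where
  toFun s p q _ x y := Groth.CohBase.res F le_top s
  map_zero' := by funext p q h x y; exact map_zero _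
  map_add' s t := by funext p q h x y; exact map_add _ _ _

lemma dT_augBT (s : F.obj (op ⊤)) : dT U V F 0 (augBT U V F s) = 0 := by
  funext p q h x y
  rw [dT_apply]
  match p, q, h with
  | 0, 0, h => exact absurd h.down (by omega)
  | 1, 0, h =>
    rw [hPart, vPart, smul_zero, add_zero, dCoch_apply, Fin.sum_univ_two]
    simp only [Fin.val_zero, pow_zero, one_smul, Fin.val_one, pow_one, neg_smul]
    refine add_neg_eq_zero.2 ?_
    exact (res_res F _ _ _).trans (res_res F _ _ _).symm
  | 0, 1, h =>
    rw [hPart, vPart, pow_zero, one_smul]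
    refine (zero_add _).trans ?_
    rw [dCoch_apply, Fin.sum_univ_two]
    simp only [Fin.val_zero, pow_zero, one_smul, Fin.val_one, pow_one, neg_smul]
    refine add_neg_eq_zero.2 ?_
    exact (res_res F _ _ _).trans (res_res F _ _ _).symm
  | p + 2, q, h => exact absurd h.down (by omega)
  | p + 1, q + 1, h => exact absurd h.down (by omega)
  | 0, q + 2, h => exact absurd h.down (by omega)

/-- The augmentation, as a morphism. -/
noncomputable def augHomT : F.obj (op ⊤) ⟶ (biCx U V F).X 0 :=
  AddCommGrpCat.ofHom (augBT U V F)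

lemma augHomT_d : augHomT U V F ≫ (biCx U V F).d 0 1 = 0 := by
  rw [biCx_d]
  exact AddCommGrpCat.ext fun s => dT_augBT U V F s

/-- Sections map to the cohomology of the total complex in degree zero. -/
noncomputable def toH0T : F.obj (op ⊤) ⟶ (biCx U V F).homology 0 :=
  (biCx U V F).liftCycles (augHomT U V F) 1 (by simp) (augHomT_d U V F) ≫
    (biCx U V F).homologyπ 0

lemma toH0T_naturality {F G : TopCat.Presheaf AddCommGrpCat.{u} X} (φ : F ⟶ G) :
    toH0T U V F ≫ HomologicalComplex.homologyMap (biMap (U := U) (V := V) φ) 0 =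
      φ.app (op ⊤) ≫ toH0T U V G := by
  rw [toH0T, toH0T, Category.assoc, HomologicalComplex.homologyπ_naturality, ← Category.assoc,
    HomologicalComplex.liftCycles_comp_cyclesMap, ← Category.assoc]
  congr 1
  rw [← cancel_mono ((biCx U V G).iCycles 0), Category.assoc,
    HomologicalComplex.liftCycles_i, HomologicalComplex.liftCycles_i]
  refine AddCommGrpCat.ext fun s => ?_
  funext p q h x y
  exact res_naturality F φ _ s

lemma toH0T_bijective (hU : ⨆ i, U i = ⊤) (hV : ⨆ l, V l = ⊤) (F : AbSheaf X) :
    Function.Bijective (toH0T U V F.obj) := by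
  have hπ : Function.Bijective ((biCx U V F.obj).homologyπ 0) :=
    ConcreteCategory.bijective_of_isIso _
  have hi : Function.Injective ((biCx U V F.obj).iCycles 0) :=
    (AddCommGrpCat.mono_iff_injective _).mp inferInstance
  have hli : ∀ s, (biCx U V F.obj).iCycles 0 ((biCx U V F.obj).liftCycles (augHomT U V F.obj) 1
      (by simp) (augHomT_d U V F.obj) s) = augBT U V F.obj s := fun s =>
    ConcreteCategory.congr_hom (HomologicalComplex.liftCycles_i (biCx U V F.obj)
      (augHomT U V F.obj) 1 (by simp) (augHomT_d U V F.obj)) s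
  refine hπ.comp ⟨fun s t h => ?_, fun c => ?_⟩
  · have h' := ((hli s).symm.trans (congrArg ((biCx U V F.obj).iCycles 0) h)).trans (hli t)
    refine eq_of_res_eq F ⊤ hU fun x => ?_
    refine eq_of_res_eq F (⊤ ⊓ inter U x) hV fun y => ?_
    rw [res_res, res_res]
    have := congrArg (Groth.CohBase.res F.obj (le_inf (inf_le_left.trans inf_le_right) inf_le_right :
      (⊤ ⊓ inter U x) ⊓ inter V y ≤ inter U x ⊓ inter V y))
      (congrFun (congrFun (congrFun (congrFun (congrFun h' 0) 0) ⟨rfl⟩) x) y)
    exact ((res_res F.obj _ _ _).symm.trans this).trans (res_res F.obj _ _ _)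
  · obtain ⟨z, hz, hz'⟩ : ∃ z : BT U V F.obj 0, dT U V F.obj 0 z = 0 ∧
        (biCx U V F.obj).iCycles 0 c = z := by
      refine ⟨_, ?_, rfl⟩
      have h1 := ConcreteCategory.congr_hom ((biCx U V F.obj).iCycles_d 0 1) c
      rw [biCx_d] at h1
      exact h1
    have hV1 : ∀ x : Fin 1 → ι, dCoch V (infL F.obj (inter U x)) 0 (colC z 0 0 rfl x) = 0 := by
      intro x
      funext y
      have h1 := congrFun (congrFun (congrFun (congrFun (congrFun hz 0) 1) ⟨rfl⟩) x) y
      rw [dT_apply, hPart, vPart, pow_zero, one_smul] at h1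
      exact (zero_add _).symm.trans h1
    choose g hg using fun x => exists_glue F (inter U x) hV (colC z 0 0 rfl x) (hV1 x)
    let c' : Coch U (infL F.obj ⊤) 0 := fun x => Groth.CohBase.res F.obj inf_le_right (g x)
    have hc' : dCoch U (infL F.obj ⊤) 0 c' = 0 := by
      funext x
      refine eq_of_res_eq F (⊤ ⊓ inter U x) hV fun y => ?_
      have h1 := congrFun (congrFun (congrFun (congrFun (congrFun hz 1) 0) ⟨rfl⟩) x) y
      rw [dT_apply, hPart, vPart, smul_zero, add_zero, dCoch_apply, Fin.sum_univ_two] at h1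
      simp only [Fin.val_zero, pow_zero, one_smul, Fin.val_one, pow_one, neg_smul] at h1
      replace h1 := add_neg_eq_zero.1 h1
      rw [dCoch_apply, Fin.sum_univ_two]
      simp only [Fin.val_zero, pow_zero, one_smul, Fin.val_one, pow_one, neg_smul, c']
      refine Eq.trans ?_ (map_zero _).symm
      refine (map_add (Groth.CohBase.res F.obj _) _ _).trans ?_
      refine (congrArg (_ + ·) (map_neg (Groth.CohBase.res F.obj _) _)).trans ?_
      refine add_neg_eq_zero.2 ?_
      have hle : (⊤ ⊓ inter U x) ⊓ inter V y ≤ inter U x ⊓ inter V y :=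
        le_inf (inf_le_left.trans inf_le_right) inf_le_right
      have key : ∀ a : Fin 2, Groth.CohBase.res F.obj (inf_le_left :
            (⊤ ⊓ inter U x) ⊓ inter V y ≤ ⊤ ⊓ inter U x)
            (Groth.CohBase.res (infL F.obj ⊤) (inter_comp U x a.succAbove)
              (Groth.CohBase.res F.obj inf_le_right (g (x ∘ a.succAbove)) :
                F.obj.obj (op (⊤ ⊓ inter U (x ∘ a.succAbove))))) =
          Groth.CohBase.res F.obj hle (Groth.CohBase.res (infR F.obj (inter V y))
            (inter_comp U x a.succAbove) (z 0 0 ⟨rfl⟩ (x ∘ a.succAbove) y)) := by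
        intro a
        have := congrArg (Groth.CohBase.res F.obj (hle.trans
          (inf_le_inf_right _ (inter_comp U x a.succAbove)))) (hg (x ∘ a.succAbove) y)
        refine Eq.trans ?_ (this.trans (res_res F.obj _ _ _).symm)
        exact (res_res F.obj _ _ _).trans ((res_res F.obj _ _ _).trans (res_res F.obj _ _ _).symm)
      exact (key 0).trans ((congrArg (Groth.CohBase.res F.obj hle) h1).trans (key 1).symm)
    obtain ⟨s, hs⟩ := exists_glue F ⊤ hU c' hc'
    refine ⟨s, hi ((hli s).trans ?_)⟩
    rw [hz']
    funext p q h x y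
    obtain ⟨rfl, rfl⟩ : p = 0 ∧ q = 0 := by have := h.down; omega
    refine Eq.trans ?_ (hg x y)
    have := congrArg (Groth.CohBase.res F.obj (le_inf le_top inf_le_left :
      inter U x ⊓ inter V y ≤ ⊤ ⊓ inter U x)) (hs x)
    exact ((res_res F.obj _ _ _).symm.trans this).trans (res_res F.obj _ _ _)

end Zero

section Single

variable {U V} {F : TopCat.Presheaf AddCommGrpCat.{u} X}

/-- A bi-cochain concentrated in one bidegree. -/
def single {n : ℕ} (a b : ℕ) (hab : a + b = n)
    (w : ∀ (x : Fin (a + 1) → ι) (y : Fin (b + 1) → κ), F.obj (op (inter U x ⊓ inter V y))) :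
    BT U V F n :=
  fun p q h x y =>
    if hp : p = a then by
      obtain rfl : q = b := by have := h.down; omega
      subst hp
      exact w x y
    else 0

lemma single_self {n : ℕ} (a b : ℕ) (hab : a + b = n)
    (w : ∀ (x : Fin (a + 1) → ι) (y : Fin (b + 1) → κ), F.obj (op (inter U x ⊓ inter V y)))
    (h : PLift (a + b = n)) : single a b hab w a b h = w := by
  funext x y
  simp [single]

lemma single_ne {n : ℕ} (a b : ℕ) (hab : a + b = n)
    (w : ∀ (x : Fin (a + 1) → ι) (y : Fin (b + 1) → κ), F.obj (op (inter U x ⊓ inter V y)))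
    {p q : ℕ} (hp : p ≠ a) (h : PLift (p + q = n)) : single a b hab w p q h = 0 := by
  funext x y
  simp [single, hp]

lemma hPart_zero_of {n : ℕ} (s : BT U V F n) {p q : ℕ} (h : PLift (p + q = n + 1))
    (hs : ∀ p', p' + 1 = p → ∀ h' x y, s p' q h' x y = 0) (x : Fin (p + 1) → ι)
    (y : Fin (q + 1) → κ) : hPart U V F s p q h x y = 0 := by
  cases p with
  | zero => rfl
  | succ p =>
    have : rowC s p q (by have := h.down; omega) y = 0 := funext fun x' => hs p rfl _ x' y
    rw [hPart, this, map_zero]
    rfl

lemma vPart_zero_of {n : ℕ} (s : BT U V F n) {p q : ℕ} (h : PLift (p + q = n + 1))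
    (hs : ∀ q', q' + 1 = q → ∀ h' x y, s p q' h' x y = 0) (x : Fin (p + 1) → ι)
    (y : Fin (q + 1) → κ) : vPart U V F s p q h x y = 0 := by
  cases q with
  | zero => rfl
  | succ q =>
    have : colC s p q (by have := h.down; omega) x = 0 := funext fun y' => hs q rfl _ x y'
    rw [vPart, this, map_zero]
    rfl

end Single

section Injective

variable (I : AbSheaf X) [Injective I]

/-- The columns of an injective sheaf are exact in positive degrees. -/
lemma cechExact_infL (W : Opens X) (q : ℕ) : CechExact V (infL I.obj W) q := by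
  let V' : κ → Opens X := fun l => W ⊓ V l
  have he : ∀ {m : ℕ} (y : Fin (m + 1) → κ), inter V' y = W ⊓ inter V y := fun y => inf_iInf.symm
  intro s hs
  let s' : Coch V' I.obj (q + 1) := fun y => Groth.CohBase.res I.obj (he y).le (s y)
  obtain ⟨t', ht'⟩ := cechExact_of_injective I V' q s' (by
    funext y
    have h1 := congrArg (Groth.CohBase.res I.obj (he y).le) (congrFun hs y)
    rw [dCoch_apply]
    refine Eq.trans ?_ (h1.trans (map_zero _))
    rw [dCoch_apply]
    refine Eq.trans ?_ (map_sum (Groth.CohBase.res I.obj (he y).le) _ _).symm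
    refine Finset.sum_congr rfl fun a _ => ?_
    refine Eq.trans ?_ (map_zsmul (Groth.CohBase.res I.obj (he y).le) _ _).symm
    refine congrArg (((-1 : ℤ) ^ (a : ℕ)) • ·) ?_
    exact (res_res I.obj _ _ _).trans (res_res I.obj _ _ _).symm)
  refine ⟨fun y => Groth.CohBase.res I.obj (he y).ge (t' y), funext fun y => ?_⟩
  have h1 := congrArg (Groth.CohBase.res I.obj (he y).ge) (congrFun ht' y)
  refine Eq.trans ?_ (h1.trans ((res_res I.obj _ _ _).trans (res_self I.obj _)))
  rw [dCoch_apply, dCoch_apply]
  refine Eq.trans ?_ (map_sum (Groth.CohBase.res I.obj (he y).ge) _ _).symm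
  refine Finset.sum_congr rfl fun a _ => ?_
  refine Eq.trans ?_ (map_zsmul (Groth.CohBase.res I.obj (he y).ge) _ _).symm
  refine congrArg (fun z : I.obj.obj (op (W ⊓ inter V y)) => ((-1 : ℤ) ^ (a : ℕ)) • z) ?_
  exact (res_res I.obj _ _ _).trans (res_res I.obj _ _ _).symm

/-- The double complex of an injective sheaf is exact in positive degrees. -/
theorem biExact_of_injective (hV : ⨆ l, V l = ⊤) {n : ℕ} (s : BT U V I.obj (n + 1))
    (hs : dT U V I.obj (n + 1) s = 0) : ∃ t, dT U V I.obj n t = s := by
  have hstep : ∀ k, k ≤ n + 1 → ∃ t, ∀ p q h x y, p < k →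
      (s - dT U V I.obj n t) p q h x y = 0 := by
    intro k hk
    induction k with
    | zero => exact ⟨0, fun p q h x y hp => absurd hp (Nat.not_lt_zero p)⟩
    | succ k ih =>
      obtain ⟨t, ht⟩ := ih (by omega)
      set r := s - dT U V I.obj n t with hr
      have hdr : dT U V I.obj (n + 1) r = 0 := by rw [hr, map_sub, hs, dT_dT, sub_zero]
      obtain ⟨j, rfl⟩ : ∃ j, n = k + j := ⟨n - k, by omega⟩
      have hcol : ∀ x, dCoch V (infL I.obj (inter U x)) (j + 1) (colC r k (j + 1) (by omega) x) = 0 := by
        intro x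
        funext y
        have h1 := congrFun (congrFun (congrFun (congrFun (congrFun hdr k) (j + 2))
          ⟨by omega⟩) x) y
        rw [dT_apply, hPart_zero_of r _ (fun p' hp' h' x' y' => ht p' _ h' x' y' (by omega))] at h1
        replace h1 := (zero_add _).symm.trans h1
        rcases neg_one_pow_eq_or ℤ k with e | e
        · rw [e, one_smul] at h1; exact h1
        · rw [e, neg_one_smul] at h1; exact neg_eq_zero.1 h1
      choose w hw using fun x => cechExact_infL V I (inter U x) j (colC r k (j + 1) (by omega) x) (hcol x)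
      let t' : BT U V I.obj (k + j) := single k j rfl fun x y => ((-1 : ℤ) ^ k) • w x y
      refine ⟨t + t', fun p q h x y hp => ?_⟩
      rw [map_add, ← sub_sub, ← hr]
      have h2 : (r - dT U V I.obj (k + j) t') p q h x y =
          r p q h x y - dT U V I.obj (k + j) t' p q h x y := rfl
      rw [h2, dT_apply, hPart_zero_of t' _ (fun p' hp' h' x' y' =>
        congrFun (congrFun (single_ne k j rfl _ (by omega) h') x') y'), sub_eq_zero]
      refine Eq.trans ?_ (zero_add _).symm
      by_cases hpk : p = k
      · subst hpk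
        obtain rfl : q = j + 1 := by have := h.down; omega
        have hc : colC t' p j rfl x = ((-1 : ℤ) ^ p) • w x := by
          funext y'
          exact congrFun (congrFun (single_self p j rfl _ ⟨rfl⟩) x) y'
        rw [vPart, show colC t' p j (_ : p + j = p + j) x = _ from hc, map_zsmul, hw x]
        refine Eq.trans ?_ (smul_smul ((-1 : ℤ) ^ p) ((-1 : ℤ) ^ p)
          (colC r p (j + 1) (by omega) x y : I.obj.obj (op (inter U x ⊓ inter V y)))).symm
        rw [← mul_pow, neg_one_mul, neg_neg, one_pow, one_smul]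
      · rw [vPart_zero_of t' _ (fun q' hq' h' x' y' =>
          congrFun (congrFun (single_ne k j rfl _ hpk h') x') y'), smul_zero]
        exact ht p q h x y (by omega)
  obtain ⟨t, ht⟩ := hstep (n + 1) le_rfl
  set r := s - dT U V I.obj n t with hr
  have hdr : dT U V I.obj (n + 1) r = 0 := by rw [hr, map_sub, hs, dT_dT, sub_zero]
  have hcol : ∀ x, dCoch V (infL I.obj (inter U x)) 0 (colC r (n + 1) 0 rfl x) = 0 := by
    intro x
    funext y
    have h1 := congrFun (congrFun (congrFun (congrFun (congrFun hdr (n + 1)) 1) ⟨rfl⟩) x) y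
    rw [dT_apply, hPart_zero_of r _ (fun p' hp' h' x' y' => ht p' _ h' x' y' (by omega))] at h1
    replace h1 := (zero_add _).symm.trans h1
    rcases neg_one_pow_eq_or ℤ (n + 1) with e | e
    · rw [e, one_smul] at h1; exact h1
    · rw [e, neg_one_smul] at h1; exact neg_eq_zero.1 h1
  choose g hg using fun x => exists_glue I (inter U x) hV (colC r (n + 1) 0 rfl x) (hcol x)
  have hgd : dCoch U I.obj (n + 1) g = 0 := by
    funext x
    refine eq_of_res_eq I (inter U x) hV fun y => ?_
    have h1 := congrFun (congrFun (congrFun (congrFun (congrFun hdr (n + 2)) 0) ⟨rfl⟩) x) y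
    rw [dT_apply, vPart, smul_zero, hPart] at h1
    replace h1 := (add_zero _).symm.trans h1
    refine Eq.trans ?_ (h1.trans (map_zero _).symm)
    rw [dCoch_apply, dCoch_apply]
    refine (map_sum (Groth.CohBase.res I.obj inf_le_left) _ _).trans ?_
    refine Finset.sum_congr rfl fun a _ => ?_
    refine (map_zsmul (Groth.CohBase.res I.obj inf_le_left) _ _).trans ?_
    refine congrArg (fun z : I.obj.obj (op (inter U x ⊓ inter V y)) => ((-1 : ℤ) ^ (a : ℕ)) • z) ?_
    refine Eq.trans ?_ (congrArg (Groth.CohBase.res I.obj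
      (inf_le_inf_right (inter V y) (inter_comp U x a.succAbove))) (hg _ y))
    exact (res_res I.obj _ _ _).trans (res_res I.obj _ _ _).symm
  obtain ⟨w, hw⟩ := cechExact_of_injective I U n g hgd
  let t' : BT U V I.obj n :=
    single n 0 (add_zero n) fun x y => Groth.CohBase.res I.obj inf_le_left (w x)
  refine ⟨t + t', ?_⟩
  rw [map_add]
  refine eq_sub_iff_add_eq'.1 ?_
  rw [← hr]
  funext p q h x y
  rw [dT_apply]
  by_cases hp : p = n + 1
  · subst hp
    obtain rfl : q = 0 := by have := h.down; omega
    rw [vPart, smul_zero]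
    refine (add_zero _).trans ?_
    have hrow : rowC t' n 0 (add_zero n) y = fun x' => Groth.CohBase.res I.obj inf_le_left (w x') := by
      funext x'
      exact congrFun (congrFun (single_self n 0 (add_zero n) _ ⟨add_zero n⟩) x') y
    rw [hPart, show rowC t' n 0 (_ : n + 0 = n) y = _ from hrow]
    refine Eq.trans ?_ (hg x y)
    refine Eq.trans ?_ (congrArg (Groth.CohBase.res I.obj inf_le_left) (congrFun hw x))
    rw [dCoch_apply, dCoch_apply]
    refine Eq.trans ?_ (map_sum (Groth.CohBase.res I.obj inf_le_left) _ _).symm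
    refine Finset.sum_congr rfl fun a _ => ?_
    refine Eq.trans ?_ (map_zsmul (Groth.CohBase.res I.obj inf_le_left) _ _).symm
    refine congrArg (fun z : I.obj.obj (op (inter U x ⊓ inter V y)) => ((-1 : ℤ) ^ (a : ℕ)) • z) ?_
    exact (res_res I.obj _ _ _).trans (res_res I.obj _ _ _).symm
  · rw [hPart_zero_of t' _ (fun p' hp' h' x' y' =>
      congrFun (congrFun (single_ne n 0 (add_zero n) _ (by have := h.down; omega) h') x') y'),
      ht p q h x y (by have := h.down; omega)]
    refine (zero_add _).trans ?_
    by_cases hpn : p = n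
    · subst hpn
      obtain rfl : q = 1 := by have := h.down; omega
      rw [vPart]
      have hc : colC t' p 0 (add_zero p) x = fun y' => Groth.CohBase.res I.obj inf_le_left (w x) := by
        funext y'
        exact congrFun (congrFun (single_self p 0 (add_zero p) _ ⟨add_zero p⟩) x) y'
      rw [show colC t' p 0 (_ : p + 0 = p) x = _ from hc, dCoch_apply, Fin.sum_univ_two]
      simp only [Fin.val_zero, pow_zero, one_smul, Fin.val_one, pow_one, neg_smul]
      refine Eq.trans (congrArg (fun z : I.obj.obj (op (inter U x ⊓ inter V y)) =>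
        ((-1 : ℤ) ^ p) • z) (add_neg_eq_zero.2 ?_)) (smul_zero _)
      exact (res_res I.obj _ _ _).trans (res_res I.obj _ _ _).symm
    · rw [vPart_zero_of t' _ (fun q' hq' h' x' y' =>
        congrFun (congrFun (single_ne n 0 (add_zero n) _ hpn h') x') y'), smul_zero]

end Injective

end Groth.CohBase.Kunneth
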