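import Mathlib.RingTheory.IsTensorProduct
import Mathlib.LinearAlgebra.TensorProduct.Tower

/-!
# Tensor products of base changes along the two sides of a pushout of rings
-/

set_option autoImplicit false

universe u

open TensorProduct

namespace Groth.CohBase.Kunneth

variable {A B C R : Type u} [CommRing A] [CommRing B] [CommRing C] [CommRing R]
  [Algebra A B] [Algebra A C] [Algebra A R] [Algebra B R] [Algebra C R]
  [IsScalarTower A B R] [IsScalarTower A C R] [Algebra.IsPushout A B C R]
  {M M' N N' : Type u} [AddCommGroup M] [AddCommGroup M'] [AddCommGroup N] [AddCommGroup N']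
  [Module A M] [Module B M] [IsScalarTower A B M] [Module A N] [Module C N] [IsScalarTower A C N]
  [Module R M'] [Module B M'] [IsScalarTower B R M']
  [Module R N'] [Module C N'] [IsScalarTower C R N']
  (f : M →ₗ[B] M') (hf : IsBaseChange R f) (g : N →ₗ[C] N') (hg : IsBaseChange R g)

include hf hg

/-- Over a pushout `R = B ⊗[A] C`, base changes of `M` and `N` tensor to `M ⊗[A] N`. -/
theorem tensor_baseChange_bijective (T : M ⊗[A] N →+ M' ⊗[R] N')
    (hT : ∀ m n, T (m ⊗ₜ n) = f m ⊗ₜ g n) : Function.Bijective T := by
  have : Algebra.IsPushout A C B R := Algebra.IsPushout.symm inferInstance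
  let : Module B N' := Module.compHom N' (algebraMap B R)
  have : IsScalarTower B R N' := IsScalarTower.of_algebraMap_smul fun _ _ => rfl
  let φ := Algebra.IsPushout.equiv A C B R
  let e1 : B ⊗[A] N ≃+ N' :=
    (TensorProduct.comm A B N).toAddEquiv.trans
      ((AlgebraTensorModule.cancelBaseChange A C C N B).symm.toAddEquiv.trans
        ((TensorProduct.congr (LinearEquiv.refl C N) φ.toLinearEquiv).toAddEquiv.trans
          ((TensorProduct.comm C N R).toAddEquiv.trans hg.equiv.toAddEquiv)))
  have he1 : ∀ b n, e1 (b ⊗ₜ n) = algebraMap B R b • g n := by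
    intro b n
    change hg.equiv (φ (1 ⊗ₜ b) ⊗ₜ n) = _
    rw [hg.equiv_tmul, Algebra.IsPushout.equiv_tmul]
    simp
  let e1' : B ⊗[A] N ≃ₗ[B] N' :=
    { e1 with
      map_smul' := fun b x => by
        induction x using TensorProduct.induction_on with
        | zero => simp
        | tmul b' n =>
          change e1 ((b • b') ⊗ₜ n) = b • e1 (b' ⊗ₜ n)
          rw [he1, he1, smul_eq_mul, map_mul, mul_smul]
          rfl
        | add x y hx hy =>
          change e1 (b • (x + y)) = b • e1 (x + y)
          rw [smul_add, map_add, map_add, smul_add]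
          exact congrArg₂ (· + ·) hx hy }
  let E : M ⊗[A] N ≃+ M' ⊗[R] N' :=
    (AlgebraTensorModule.cancelBaseChange A B B M N).symm.toAddEquiv.trans
      ((TensorProduct.congr (LinearEquiv.refl B M) e1').toAddEquiv.trans
        ((TensorProduct.comm B M N').toAddEquiv.trans
          ((AlgebraTensorModule.cancelBaseChange B R R N' M).symm.toAddEquiv.trans
            ((TensorProduct.congr (LinearEquiv.refl R N') hf.equiv).toAddEquiv.trans
              (TensorProduct.comm R N' M').toAddEquiv))))
  have hE : ∀ z, T z = E z := by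
    intro z
    induction z using TensorProduct.induction_on with
    | zero => simp
    | tmul m n =>
      rw [hT]
      change f m ⊗ₜ[R] g n = hf.equiv ((1 : R) ⊗ₜ m) ⊗ₜ[R] e1 ((1 : B) ⊗ₜ n)
      rw [hf.equiv_tmul, he1, map_one, one_smul, one_smul]
    | add x y hx hy => rw [map_add, map_add, hx, hy]
  rw [show (T : M ⊗[A] N → M' ⊗[R] N') = E from funext hE]
  exact E.bijective

end Groth.CohBase.Kunneth
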