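import Groth.Agent.CohBase.Kunneth.BoxAlg
import Groth.Agent.CohBase.TensorSec
import Groth.Agent.LocFree.ExtPullback
import Groth.Agent.QCohMod.Tensor
import Groth.Agent.PropsBasic.FibreBox
import Groth.Agent.PicAux.TensorLift
import Mathlib.AlgebraicGeometry.Morphisms.Affine

/-!
# Sections of an external tensor product over a box of affine opens
-/

set_option autoImplicit false

universe u

open CategoryTheory Limits AlgebraicGeometry TopologicalSpace Opposite TensorProduct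
open Groth.QCohMod (resFun resFun_resFun res_app)
open Groth.PicAux (pullSec res_pullSec tmulSec res_tmulSec tmulSec_smul_left tmulSec_smul_right
  ptenUnit PTen)

namespace Groth.CohBase.Kunneth

variable (A : Type u) [CommRing A] {X₁ X₂ P : Scheme.{u}}
  [X₁.Over (Spec (CommRingCat.of A))] [X₂.Over (Spec (CommRingCat.of A))]
  [P.Over (Spec (CommRingCat.of A))] (p₁ : P ⟶ X₁) (p₂ : P ⟶ X₂)
  (F₁ : X₁.Modules) (F₂ : X₂.Modules)

/-- The product of two opens. -/
abbrev box (U : X₁.Opens) (V : X₂.Opens) : P.Opens := p₁ ⁻¹ᵁ U ⊓ p₂ ⁻¹ᵁ V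

/-- The external tensor product. -/
noncomputable abbrev extTen : P.Modules :=
  CohB1.tensorMod ((Scheme.Modules.pullback p₁).obj F₁) ((Scheme.Modules.pullback p₂).obj F₂)

lemma appLE_toSec {Y : Scheme.{u}} [Y.Over (Spec (CommRingCat.of A))] (p : P ⟶ Y)
    [p.IsOver (Spec (CommRingCat.of A))] {U : Y.Opens} {W : P.Opens} (e : W ≤ p ⁻¹ᵁ U) (a : A) :
    p.appLE U W e (toSec A U a) = toSec A W a := by
  change p.appLE U W e (resFun Y le_top ((Y ↘ Spec (CommRingCat.of A)).appTop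
      ((Scheme.ΓSpecIso (CommRingCat.of A)).inv a))) =
    resFun P le_top ((P ↘ Spec (CommRingCat.of A)).appTop
      ((Scheme.ΓSpecIso (CommRingCat.of A)).inv a))
  rw [← comp_over p (Spec (CommRingCat.of A)), Scheme.Hom.comp_appTop, CommRingCat.comp_apply]
  exact (congr($(p.map_appLE e (homOfLE (le_top : U ≤ ⊤)).op)
    ((Y ↘ Spec (CommRingCat.of A)).appTop ((Scheme.ΓSpecIso (CommRingCat.of A)).inv a)))).trans rfl

omit [P.Over (Spec (CommRingCat.of A))] in
lemma res_pullSec_add {Y : Scheme.{u}} (p : P ⟶ Y) (M : Y.Modules) {U : Y.Opens} {W : P.Opens}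
    (e : W ≤ p ⁻¹ᵁ U) (s s' : Γ(M, U)) :
    QCohMod.res _ e (pullSec p M (s + s')) =
      QCohMod.res _ e (pullSec p M s) + QCohMod.res _ e (pullSec p M s') :=
  (congrArg _ (map_add (((Scheme.Modules.pullbackPushforwardAdjunction p).unit.app M).app U).hom
    s s')).trans (map_add _ _ _)

variable [p₁.IsOver (Spec (CommRingCat.of A))] [p₂.IsOver (Spec (CommRingCat.of A))]

/-- `s ⊗ t ↦ p₁^*s ⊗ p₂^*t`. -/
noncomputable def boxSec (U : X₁.Opens) (V : X₂.Opens) :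
    secA A F₁ U ⊗[A] secA A F₂ V →ₗ[A] secA A (extTen p₁ p₂ F₁ F₂) (box p₁ p₂ U V) :=
  TensorProduct.lift (LinearMap.mk₂ A
    (fun (s : secA A F₁ U) (t : secA A F₂ V) =>
      (tmulSec (QCohMod.res _ (inf_le_left : box p₁ p₂ U V ≤ p₁ ⁻¹ᵁ U) (pullSec p₁ F₁ s))
        (QCohMod.res _ (inf_le_right : box p₁ p₂ U V ≤ p₂ ⁻¹ᵁ V) (pullSec p₂ F₂ t)) :
        secA A (extTen p₁ p₂ F₁ F₂) (box p₁ p₂ U V)))
    (fun s s' t => (congrArg (fun z => tmulSec z _) (res_pullSec_add p₁ F₁ _ s s')).trans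
      (Groth.PicAux.tmulSec_add_left _ _ _))
    (fun a s t => by
      refine (congrArg (fun z => tmulSec z _)
        (QCohMod.res_pullSec_smul p₁ F₁ (inf_le_left : box p₁ p₂ U V ≤ p₁ ⁻¹ᵁ U)
          (toSec A U a) s)).trans ?_
      rw [appLE_toSec A p₁]
      exact tmulSec_smul_left _ _ _)
    (fun s t t' => (congrArg (tmulSec _) (res_pullSec_add p₂ F₂ _ t t')).trans
      (Groth.PicAux.tmulSec_add_right _ _ _))
    (fun a s t => by
      refine (congrArg (tmulSec _)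
        (QCohMod.res_pullSec_smul p₂ F₂ (inf_le_right : box p₁ p₂ U V ≤ p₂ ⁻¹ᵁ V)
          (toSec A V a) t)).trans ?_
      rw [appLE_toSec A p₂]
      exact tmulSec_smul_right _ _ _))

lemma boxSec_tmul (U : X₁.Opens) (V : X₂.Opens) (s : secA A F₁ U) (t : secA A F₂ V) :
    boxSec A p₁ p₂ F₁ F₂ U V (s ⊗ₜ t) =
      tmulSec (QCohMod.res _ (inf_le_left : box p₁ p₂ U V ≤ p₁ ⁻¹ᵁ U) (pullSec p₁ F₁ s))
        (QCohMod.res _ (inf_le_right : box p₁ p₂ U V ≤ p₂ ⁻¹ᵁ V) (pullSec p₂ F₂ t)) := rfl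

lemma boxSec_res {U U' : X₁.Opens} {V V' : X₂.Opens} (hU : U' ≤ U) (hV : V' ≤ V)
    (h : box p₁ p₂ U' V' ≤ box p₁ p₂ U V) (z : secA A F₁ U ⊗[A] secA A F₂ V) :
    secRes A (extTen p₁ p₂ F₁ F₂) h (boxSec A p₁ p₂ F₁ F₂ U V z) =
      boxSec A p₁ p₂ F₁ F₂ U' V' (TensorProduct.map (secRes A F₁ hU) (secRes A F₂ hV) z) := by
  induction z using TensorProduct.induction_on with
  | zero => simp
  | tmul s t =>
    rw [TensorProduct.map_tmul, boxSec_tmul, boxSec_tmul, secRes_apply]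
    refine (QCohMod.res_tmulSec h _ _).trans (congrArg₂ tmulSec ?_ ?_)
    · exact (QCohMod.res_res _ _ _ _).trans ((QCohMod.res_res _ (p₁.preimage_mono hU)
        inf_le_left _).symm.trans (congrArg _ (res_pullSec p₁ F₁ hU s)))
    · exact (QCohMod.res_res _ _ _ _).trans ((QCohMod.res_res _ (p₂.preimage_mono hV)
        inf_le_right _).symm.trans (congrArg _ (res_pullSec p₂ F₂ hV t)))
  | add x y hx hy => simp only [map_add, hx, hy]

omit [p₁.IsOver (Spec (CommRingCat.of A))] [p₂.IsOver (Spec (CommRingCat.of A))]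
  [P.Over (Spec (CommRingCat.of A))] in
lemma isAffineOpen_box (h : IsPullback p₁ p₂ (X₁ ↘ Spec (CommRingCat.of A))
    (X₂ ↘ Spec (CommRingCat.of A))) {U : X₁.Opens} {V : X₂.Opens} (hU : IsAffineOpen U)
    (hV : IsAffineOpen V) : IsAffineOpen (box p₁ p₂ U V) := by
  have h1 := Groth.PropsBasic.Ample.isAffineOpen_fibre_box (f := X₁ ↘ Spec (CommRingCat.of A))
    (g := X₂ ↘ Spec (CommRingCat.of A)) (isAffineOpen_top _) hU hV le_top le_top
  have h2 := h1.preimage_of_isIso h.isoPullback.hom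
  rwa [Scheme.Hom.preimage_inf, ← Scheme.Hom.comp_preimage, ← Scheme.Hom.comp_preimage,
    h.isoPullback_hom_fst, h.isoPullback_hom_snd] at h2

/-- Sections of the external tensor product over a box of affine opens. -/
theorem boxSec_bijective [F₁.IsQuasicoherent] [F₂.IsQuasicoherent]
    (h : IsPullback p₁ p₂ (X₁ ↘ Spec (CommRingCat.of A)) (X₂ ↘ Spec (CommRingCat.of A)))
    {U : X₁.Opens} {V : X₂.Opens} (hU : IsAffineOpen U) (hV : IsAffineOpen V) :
    Function.Bijective (boxSec A p₁ p₂ F₁ F₂ U V) := by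
  have e₁ : box p₁ p₂ U V ≤ p₁ ⁻¹ᵁ U := inf_le_left
  have e₂ : box p₁ p₂ U V ≤ p₂ ⁻¹ᵁ V := inf_le_right
  have hW := isAffineOpen_box A p₁ p₂ h hU hV
  let W := box p₁ p₂ U V
  let : Algebra A Γ(X₁, U) := (toSec A U).toAlgebra
  let : Algebra A Γ(X₂, V) := (toSec A V).toAlgebra
  let : Algebra A Γ(P, W) := (toSec A W).toAlgebra
  let : Algebra Γ(X₁, U) Γ(P, W) := (p₁.appLE U W e₁).hom.toAlgebra
  let : Algebra Γ(X₂, V) Γ(P, W) := (p₂.appLE V W e₂).hom.toAlgebra
  have : IsScalarTower A Γ(X₁, U) Γ(P, W) := IsScalarTower.of_algebraMap_eq fun a =>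
    (appLE_toSec A p₁ e₁ a).symm
  have : IsScalarTower A Γ(X₂, V) Γ(P, W) := IsScalarTower.of_algebraMap_eq fun a =>
    (appLE_toSec A p₂ e₂ a).symm
  let US : (Spec (CommRingCat.of A)).Opens := ⊤
  have hiso := isIso_pushoutSection_of_isAffineOpen h (US := US) (UT := V) (UX := U)
    (UY := W) le_top le_top rfl (isAffineOpen_top _) hV hU
  rw [isIso_pushoutSection_iff] at hiso
  have hP : IsPushout (CommRingCat.ofHom (algebraMap A Γ(X₁, U)))
      (CommRingCat.ofHom (algebraMap A Γ(X₂, V))) (p₁.appLE U W e₁) (p₂.appLE V W e₂) := by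
    refine hiso.of_iso (Scheme.ΓSpecIso (CommRingCat.of A)) (Iso.refl _) (Iso.refl _) (Iso.refl _)
      ?_ ?_ ?_ ?_
    · rw [← Iso.inv_comp_eq]
      exact CommRingCat.hom_ext (RingHom.ext fun a => rfl)
    · rw [← Iso.inv_comp_eq]
      exact CommRingCat.hom_ext (RingHom.ext fun a => rfl)
    · exact (Category.comp_id _).trans (Category.id_comp _).symm
    · exact (Category.comp_id _).trans (Category.id_comp _).symm
  have : Algebra.IsPushout A Γ(X₁, U) Γ(X₂, V) Γ(P, W) :=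
    CommRingCat.isPushout_iff_isPushout.mp hP
  let G₁ := (Scheme.Modules.pullback p₁).obj F₁
  let G₂ := (Scheme.Modules.pullback p₂).obj F₂
  have := QCohMod.isQCoh_pullback_obj p₁ F₁
  have := QCohMod.isQCoh_pullback_obj p₂ F₂
  let : Module A Γ(F₁, U) := Module.compHom _ (toSec A U)
  let : Module A Γ(F₂, V) := Module.compHom _ (toSec A V)
  have : IsScalarTower A Γ(X₁, U) Γ(F₁, U) := IsScalarTower.of_algebraMap_smul fun _ _ => rfl
  have : IsScalarTower A Γ(X₂, V) Γ(F₂, V) := IsScalarTower.of_algebraMap_smul fun _ _ => rfl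
  let : Module Γ(X₁, U) Γ(G₁, W) := Module.compHom _ (p₁.appLE U W e₁).hom
  let : Module Γ(X₂, V) Γ(G₂, W) := Module.compHom _ (p₂.appLE V W e₂).hom
  have : IsScalarTower Γ(X₁, U) Γ(P, W) Γ(G₁, W) := IsScalarTower.of_algebraMap_smul fun _ _ => rfl
  have : IsScalarTower Γ(X₂, V) Γ(P, W) Γ(G₂, W) := IsScalarTower.of_algebraMap_smul fun _ _ => rfl
  let f := LocFree.pullSecₗ p₁ F₁ e₁
  let g := LocFree.pullSecₗ p₂ F₂ e₂
  let T : Γ(F₁, U) ⊗[A] Γ(F₂, V) →+ PTen G₁ G₂ W :=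
    TensorProduct.liftAddHom
      (AddMonoidHom.mk' (fun s => AddMonoidHom.mk' (fun t => f s ⊗ₜ[Γ(P, W)] g t)
        fun t t' => by rw [map_add, tmul_add]) fun s s' => AddMonoidHom.ext fun t => by
          change f (s + s') ⊗ₜ[Γ(P, W)] g t = f s ⊗ₜ[Γ(P, W)] g t + f s' ⊗ₜ[Γ(P, W)] g t
          rw [map_add, add_tmul])
      fun a s t => by
        change f (toSec A U a • s) ⊗ₜ[Γ(P, W)] g t = f s ⊗ₜ[Γ(P, W)] g (toSec A V a • t)
        rw [map_smul, map_smul]
        change ((p₁.appLE U W e₁) (toSec A U a) • f s) ⊗ₜ[Γ(P, W)] g t =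
          f s ⊗ₜ[Γ(P, W)] ((p₂.appLE V W e₂) (toSec A V a) • g t)
        rw [appLE_toSec A p₁, appLE_toSec A p₂, smul_tmul]
  have hT : Function.Bijective T := tensor_baseChange_bijective f
    (LocFree.isBaseChange_pullSecₗ p₁ F₁ e₁ hU hW) g
    (LocFree.isBaseChange_pullSecₗ p₂ F₂ e₂ hV hW) T fun _ _ => rfl
  have hpu : Function.Bijective (ptenUnit G₁ G₂ W) := QCohMod.ptenUnit_bijective hW
  have key : ∀ z : Γ(F₁, U) ⊗[A] Γ(F₂, V),
      ptenUnit G₁ G₂ W (T z) = boxSec A p₁ p₂ F₁ F₂ U V z := by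
    intro z
    induction z using TensorProduct.induction_on with
    | zero =>
      rw [map_zero, map_zero]
      exact (map_zero (boxSec A p₁ p₂ F₁ F₂ U V)).symm
    | tmul s t => rfl
    | add x y hx hy =>
      rw [map_add, map_add, hx, hy]
      exact (map_add (boxSec A p₁ p₂ F₁ F₂ U V) x y).symm
  have hc := hpu.comp hT
  rwa [show (ptenUnit G₁ G₂ W : PTen G₁ G₂ W → _) ∘ T =
    (boxSec A p₁ p₂ F₁ F₂ U V : _ → _) from funext key] at hc

end Groth.CohBase.Kunneth
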