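import Groth.Agent.HTopHyper.HTor.Devissage
import Mathlib.Algebra.Homology.ShortComplex.Ab

/-!
# Künneth for complexes concentrated in non-negative degrees, by brutal truncation
-/

set_option autoImplicit false

universe u

open CategoryTheory CategoryTheory.Limits HomologicalComplex
open scoped TensorProduct
open Groth.HTorLib

namespace Groth.CohBase.Kunneth

variable {A : Type u} [CommRing A] (L M : DRing.Cx A) (N : ℤ)

/-- The terms of the truncation, as submodules. -/
noncomputable def trSub (i : ℤ) : Submodule A (L.X i) := if i ≤ N then ⊤ else ⊥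

/-- The projection on the terms of the truncation. -/
noncomputable def trPi (i : ℤ) : L.X i →ₗ[A] trSub L N i :=
  if h : i ≤ N then LinearMap.id.codRestrict _ (fun _ => by simp [trSub, h]) else 0

lemma trPi_val_of_le {i : ℤ} (h : i ≤ N) (x : L.X i) : (trPi L N i x).1 = x := by
  simp [trPi, h]

lemma subsingleton_trSub {i : ℤ} (h : N < i) : Subsingleton (trSub L N i) := by
  rw [trSub, if_neg (not_le.2 h)]
  infer_instance

lemma trPi_surjective (i : ℤ) : Function.Surjective (trPi L N i) := fun y => by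
  by_cases h : i ≤ N
  · exact ⟨y.1, Subtype.ext (trPi_val_of_le L N h y.1)⟩
  · have := subsingleton_trSub L N (not_le.1 h)
    exact ⟨0, Subsingleton.elim _ _⟩

lemma trPi_val (i : ℤ) (y : trSub L N i) : trPi L N i y.1 = y := by
  obtain ⟨x, rfl⟩ := trPi_surjective L N i y
  by_cases h : i ≤ N
  · rw [trPi_val_of_le L N h]
  · have := subsingleton_trSub L N (not_le.1 h)
    exact Subsingleton.elim _ _

lemma trPi_d (i : ℤ) (x : L.X i) :
    trPi L N (i + 1) (L.d i (i + 1) (trPi L N i x).1) = trPi L N (i + 1) (L.d i (i + 1) x) := by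
  by_cases h : i ≤ N
  · rw [trPi_val_of_le L N h]
  · have := subsingleton_trSub L N (i := i + 1) (by omega)
    exact Subsingleton.elim _ _

/-- The differential of the truncation. -/
noncomputable def trD (i : ℤ) : trSub L N i →ₗ[A] trSub L N (i + 1) :=
  (trPi L N (i + 1)).comp ((L.d i (i + 1)).hom.comp (trSub L N i).subtype)

lemma trD_apply (i : ℤ) (x : trSub L N i) :
    trD L N i x = trPi L N (i + 1) (L.d i (i + 1) x.1) := rfl

/-- The brutal truncation above `N`. -/
noncomputable def trunc : DRing.Cx A :=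
  CochainComplex.of (fun i => ModuleCat.of A (trSub L N i)) (fun i => ModuleCat.ofHom (trD L N i))
    fun i => ModuleCat.hom_ext (LinearMap.ext fun x => by
      change trD L N (i + 1) (trD L N i x) = 0
      rw [trD_apply, trD_apply, trPi_d,
        show L.d (i + 1) (i + 1 + 1) (L.d i (i + 1) x.1) = 0 from
          LinearMap.congr_fun (congrArg ModuleCat.Hom.hom (L.d_comp_d i (i + 1) (i + 1 + 1))) x.1,
        map_zero])

lemma trunc_d (i : ℤ) : (trunc L N).d i (i + 1) = ModuleCat.ofHom (trD L N i) :=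
  CochainComplex.of_d (fun i => ModuleCat.of A (trSub L N i))
    (fun i => ModuleCat.ofHom (trD L N i)) i

/-- The map to the truncation. -/
noncomputable def truncπ : L ⟶ trunc L N where
  f i := ModuleCat.ofHom (trPi L N i)
  comm' i j hij := by
    obtain rfl : i + 1 = j := hij
    rw [trunc_d]
    exact ModuleCat.hom_ext (LinearMap.ext fun x => trPi_d L N i x)

lemma truncπ_surjective (i : ℤ) : Function.Surjective ((truncπ L N).f i) := trPi_surjective L N i

lemma truncπ_injective {i : ℤ} (h : i ≤ N) : Function.Injective ((truncπ L N).f i) := fun x y e =>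
  (trPi_val_of_le L N h x).symm.trans ((congrArg Subtype.val e).trans (trPi_val_of_le L N h y))

lemma vanishesAbove_trunc : DRing.VanishesAbove (trunc L N) N := fun i hi =>
  @ModuleCat.isZero_of_subsingleton A _ _ (subsingleton_trSub L N hi)

lemma termwiseFlat_trunc (hL : ∀ i, Module.Flat A (L.X i)) : DRing.TermwiseFlat (trunc L N) := by
  intro i
  change Module.Flat A (trSub L N i)
  by_cases h : i ≤ N
  · have := hL i
    refine Module.Flat.of_linearEquiv ((LinearEquiv.ofEq _ _ (if_pos h)).trans Submodule.topEquiv)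
  · have := subsingleton_trSub L N (not_le.1 h)
    infer_instance

variable {L M}

/-- A map of complexes that is surjective in degree `n - 1`, bijective in degree `n` and injective in
degree `n + 1` is bijective on `H^n`. -/
lemma homologyMap_bijective_of_deg {K K' : DRing.Cx A} (φ : K ⟶ K') (n : ℤ)
    (h0 : Function.Surjective (φ.f (n - 1))) (h1 : Function.Bijective (φ.f n))
    (h2 : Function.Injective (φ.f (n + 1))) : Function.Bijective (homologyMap φ n) := by
  have hc : ∀ (i j : ℤ) (x : K.X i), K'.d i j (φ.f i x) = φ.f j (K.d i j x) := fun i j x =>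
    LinearMap.congr_fun (congrArg ModuleCat.Hom.hom (φ.comm i j)) x
  refine ⟨(injective_iff_map_eq_zero _).2 fun a ha => ?_, fun b => ?_⟩
  · obtain ⟨z, rfl⟩ := cl_surjective K n a
    rw [map_cl] at ha
    obtain ⟨w', hw⟩ := (cl_eq_zero_iff _ _ _).1 ha
    obtain ⟨w, rfl⟩ := h0 w'
    exact (cl_eq_zero_iff _ _ _).2 ⟨w, h1.1 ((hc _ _ w).symm.trans hw)⟩
  · obtain ⟨y, rfl⟩ := cl_surjective K' n b
    obtain ⟨x, hx⟩ := h1.2 y.1
    have hz : x ∈ Z K n := mem_Z.2 (h2 (by
      rw [← hc, hx, map_zero]; exact y.2))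
    exact ⟨cl K n ⟨x, hz⟩, (map_cl φ n _).trans (cl_congr _ _ hx)⟩

lemma homologyMap_truncπ_bijective (L : DRing.Cx A) {n : ℤ} (hn : n < N) :
    Function.Bijective (homologyMap (truncπ L N) n) :=
  homologyMap_bijective_of_deg _ n (truncπ_surjective L N _)
    ⟨truncπ_injective L N hn.le, truncπ_surjective L N _⟩ (truncπ_injective L N hn)

/-- The top cohomology of the truncation is the cokernel. -/
lemma nonempty_homology_trunc_top (L : DRing.Cx A) :
    Nonempty ((L.X N ⧸ LinearMap.range (L.d (N - 1) N).hom) ≃ₗ[A] (trunc L N).homology N) := by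
  have hz : ∀ x, (truncπ L N).f N x ∈ Z (trunc L N) N := fun x => by
    have := subsingleton_trSub L N (i := N + 1) (by omega)
    exact mem_Z.2 (Subsingleton.elim (α := trSub L N (N + 1)) _ _)
  let f : L.X N →ₗ[A] (trunc L N).homology N :=
    (cl _ N).comp (LinearMap.codRestrict _ ((truncπ L N).f N).hom hz)
  have hs : Function.Surjective f := fun b => by
    obtain ⟨y, rfl⟩ := cl_surjective _ N b
    obtain ⟨x, hx⟩ := truncπ_surjective L N N y.1
    exact ⟨x, cl_congr _ _ hx⟩
  have hk : LinearMap.ker f = LinearMap.range (L.d (N - 1) N).hom := by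
    have hc : ∀ (i j : ℤ) (x : L.X i),
        (trunc L N).d i j ((truncπ L N).f i x) = (truncπ L N).f j (L.d i j x) := fun i j x =>
      LinearMap.congr_fun (congrArg ModuleCat.Hom.hom ((truncπ L N).comm i j)) x
    ext x
    rw [LinearMap.mem_ker]
    refine (cl_eq_zero_iff (trunc L N) N _).trans ⟨?_, ?_⟩
    · rintro ⟨w', hw⟩
      obtain ⟨w, rfl⟩ := truncπ_surjective L N _ w'
      exact ⟨w, truncπ_injective L N le_rfl ((hc _ _ w).symm.trans hw)⟩
    · rintro ⟨w, rfl⟩
      exact ⟨(truncπ L N).f _ w, hc _ _ w⟩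
  exact ⟨(Submodule.quotEquivOfEq _ _ hk.symm).trans (f.quotKerEquivOfSurjective hs)⟩

variable (L M)

/-- The map of tensor products to the truncations. -/
noncomputable abbrev truncππ : HTor.tensorCx L M ⟶ HTor.tensorCx (trunc L N) (trunc M N) :=
  HomologicalComplex.tensorHom (truncπ L N) (truncπ M N)

/-- A linear section of the map of tensor products to the truncations. -/
noncomputable def truncSection (m : ℤ) :
    (HTor.tensorCx (trunc L N) (trunc M N)).X m →ₗ[A] (HTor.tensorCx L M).X m :=
  (DirectSum.toModule A _ _ fun ij => (ι' L M ij.1.1 ij.1.2 m ij.2).comp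
    (TensorProduct.map (trSub L N ij.1.1).subtype (trSub M N ij.1.2).subtype)).comp
      (dec (trunc L N) (trunc M N) m).toLinearMap

lemma truncSection_ι' (m i j : ℤ) (h : i + j = m) (a : (trunc L N).X i) (b : (trunc M N).X j) :
    truncSection L M N m (ι' (trunc L N) (trunc M N) i j m h (a ⊗ₜ b)) =
      ι' L M i j m h ((Subtype.val (α := L.X i) a) ⊗ₜ (Subtype.val (α := M.X j) b)) := by
  refine (congrArg (DirectSum.toModule A (HTor.Antidiag m) _ fun ij =>
    (ι' L M ij.1.1 ij.1.2 m ij.2).comp
      (TensorProduct.map (trSub L N ij.1.1).subtype (trSub M N ij.1.2).subtype))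
    (decHom_ι' (trunc L N) (trunc M N) i j m h (a ⊗ₜ b))).trans ?_
  exact DirectSum.toModule_lof A (φ := fun ij : HTor.Antidiag m =>
    (ι' L M ij.1.1 ij.1.2 m ij.2).comp
      (TensorProduct.map (trSub L N ij.1.1).subtype (trSub M N ij.1.2).subtype)) ⟨(i, j), h⟩ (a ⊗ₜ b)

lemma truncππ_truncSection (m : ℤ) (y : (HTor.tensorCx (trunc L N) (trunc M N)).X m) :
    (truncππ L M N).f m (truncSection L M N m y) = y := by
  induction y using tensorCx_induction with
  | h0 => rw [map_zero, map_zero]
  | hadd a b ha hb => rw [map_add, map_add, ha, hb]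
  | hι i j h a b =>
    rw [truncSection_ι', tensorHom_ι']
    exact congrArg₂ (fun u v => ι' (trunc L N) (trunc M N) i j m h (u ⊗ₜ v))
      (trPi_val L N i a) (trPi_val M N j b)

variable {L M}

lemma truncSection_truncππ (hL0 : ∀ i < 0, Subsingleton (L.X i))
    (hM0 : ∀ i < 0, Subsingleton (M.X i)) {m : ℤ} (hm : m ≤ N) (x : (HTor.tensorCx L M).X m) :
    truncSection L M N m ((truncππ L M N).f m x) = x := by
  induction x using tensorCx_induction with
  | h0 => rw [map_zero, map_zero]
  | hadd a b ha hb => rw [map_add, map_add, ha, hb]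
  | hι i j h a b =>
    rw [tensorHom_ι', truncSection_ι']
    by_cases hi : i < 0
    · have := hL0 i hi
      have hz : ∀ (u : L.X i) (v : M.X j), ι' L M i j m h (u ⊗ₜ v) = 0 := fun u v => by
        rw [Subsingleton.elim u 0, TensorProduct.zero_tmul, map_zero]
      exact (hz _ _).trans (hz _ _).symm
    by_cases hj : j < 0
    · have := hM0 j hj
      have hz : ∀ (u : L.X i) (v : M.X j), ι' L M i j m h (u ⊗ₜ v) = 0 := fun u v => by
        rw [Subsingleton.elim v 0, TensorProduct.tmul_zero, map_zero]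
      exact (hz _ _).trans (hz _ _).symm
    exact congrArg₂ (fun u v => ι' L M i j m h (u ⊗ₜ v))
      (trPi_val_of_le L N (by omega) a) (trPi_val_of_le M N (by omega) b)

lemma homologyMap_truncππ_bijective (hL0 : ∀ i < 0, Subsingleton (L.X i))
    (hM0 : ∀ i < 0, Subsingleton (M.X i)) {n : ℤ} (hn : n < N) :
    Function.Bijective (homologyMap (truncππ L M N) n) :=
  have hs : ∀ m, Function.Surjective ((truncππ L M N).f m) := fun m y =>
    ⟨_, truncππ_truncSection L M N m y⟩
  have hi : ∀ m, m ≤ N → Function.Injective ((truncππ L M N).f m) := fun m hm =>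
    Function.LeftInverse.injective (g := truncSection L M N m) (truncSection_truncππ N hL0 hM0 hm)
  homologyMap_bijective_of_deg _ n (hs _) ⟨hi n hn.le, hs n⟩ (hi _ hn)

section Restrict

variable {n : ℕ} (V : HTor.Antidiag (n : ℤ) → Type u) [∀ ij, AddCommGroup (V ij)]
  [∀ ij, Module A (V ij)]

/-- A point of the antidiagonal in `ℕ` as a point of the antidiagonal in `ℤ`. -/
def toZ (pq : Finset.antidiagonal n) : HTor.Antidiag (n : ℤ) :=
  ⟨((pq.1.1 : ℤ), (pq.1.2 : ℤ)), by have := Finset.mem_antidiagonal.1 pq.2; omega⟩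

variable (A) in
/-- The components with non-negative indices. -/
noncomputable def restrictNat :
    DirectSum (HTor.Antidiag (n : ℤ)) V →ₗ[A] ∀ pq : Finset.antidiagonal n, V (toZ pq) :=
  LinearMap.pi fun pq => DirectSum.component A _ V (toZ pq)

lemma toZ_injective : Function.Injective (toZ (n := n)) := fun a b e => by
  have h1 := congrArg (fun x : HTor.Antidiag (n : ℤ) => x.1.1) e
  have h2 := congrArg (fun x : HTor.Antidiag (n : ℤ) => x.1.2) e
  simp only [toZ, Nat.cast_inj] at h1 h2
  exact Subtype.ext (Prod.ext h1 h2)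

lemma restrictNat_bijective
    (hV : ∀ ij : HTor.Antidiag (n : ℤ), ij.1.1 < 0 ∨ ij.1.2 < 0 → Subsingleton (V ij)) :
    Function.Bijective (restrictNat A V) := by
  classical
  refine ⟨fun s t e => DFinsupp.ext fun ij => ?_, fun f => ?_⟩
  · by_cases h : ij.1.1 < 0 ∨ ij.1.2 < 0
    · exact (hV ij h).elim _ _
    · obtain ⟨⟨i, j⟩, hij⟩ := ij
      simp only [not_or, not_lt] at h
      obtain ⟨p, rfl⟩ : ∃ p : ℕ, i = p := ⟨i.toNat, by omega⟩
      obtain ⟨q, rfl⟩ : ∃ q : ℕ, j = q := ⟨j.toNat, by omega⟩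
      exact congrFun e ⟨(p, q), Finset.mem_antidiagonal.2 (Int.natCast_inj.1 ((Nat.cast_add p q).trans hij))⟩
  · refine ⟨∑ pq, DirectSum.lof A _ V (toZ pq) (f pq), funext fun rs => ?_⟩
    rw [restrictNat, LinearMap.pi_apply, map_sum, Finset.sum_eq_single rs]
    · exact DirectSum.component.lof_self A _ _
    · intro pq _ hne
      rw [DirectSum.component.of, dif_neg (fun e => hne (toZ_injective e))]
    · simp

end Restrict

section Compare

variable {B : CochainComplex AddCommGrpCat.{u} ℕ} {K : DRing.Cx A}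

/-- A degreewise bijection in non-negative degrees gives the same cohomology. -/
theorem nonempty_homology_equiv_of_nat (e : ∀ m : ℕ, K.X (m : ℤ) →+ B.X m)
    (he : ∀ m, Function.Bijective (e m)) (h0 : ∀ i < 0, Subsingleton (K.X i))
    (hd : ∀ (m : ℕ) (x : K.X (m : ℤ)), e (m + 1) (K.d (m : ℤ) ((m + 1 : ℕ) : ℤ) x) = B.d m (m + 1) (e m x))
    (n : ℕ) : Nonempty ((K.homology (n : ℤ) : Type u) ≃+ (B.homology n : Type u)) := by
  let S := B.sc n
  have hnext : (ComplexShape.up ℕ).next n = n + 1 := CochainComplex.next ℕ n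
  have hg : ∀ x : K.X (n : ℤ), S.g.hom (e n x) = 0 ↔ K.d (n : ℤ) ((n : ℤ) + 1) x = 0 := by
    intro x
    have h1 : S.g.hom (e n x) = 0 ↔ B.d n (n + 1) (e n x) = 0 := by
      change B.d n ((ComplexShape.up ℕ).next n) (e n x) = 0 ↔ _
      rw [hnext]
    rw [h1, ← hd n x, map_eq_zero_iff _ (he (n + 1)).1]
    exact Iff.of_eq rfl
  let π : AddMonoidHom.ker S.g.hom →+ (B.homology n : Type u) :=
    S.abHomologyIso.inv.hom.comp (QuotientAddGroup.mk' _)
  have hπs : Function.Surjective π :=
    ((AddCommGrpCat.epi_iff_surjective S.abHomologyIso.inv).1 inferInstance).comp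
      (QuotientAddGroup.mk'_surjective _)
  have hπ0 : ∀ y, π y = 0 ↔ ∃ w, S.f w = y.1 := fun y => by
    refine ((map_eq_zero_iff _ ((AddCommGrpCat.mono_iff_injective S.abHomologyIso.inv).1
      inferInstance)).trans (QuotientAddGroup.eq_zero_iff y)).trans ?_
    exact exists_congr fun w => ⟨fun h => congrArg Subtype.val h, fun h => Subtype.ext h⟩
  let g : Z K (n : ℤ) →+ (B.homology n : Type u) :=
    π.comp (AddMonoidHom.codRestrict ((e n).comp (Z K (n : ℤ)).subtype.toAddMonoidHom) _
      fun x => (hg x.1).2 x.2)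
  have hgs : Function.Surjective g := fun b => by
    obtain ⟨y, rfl⟩ := hπs b
    obtain ⟨x, hx⟩ := (he n).2 y.1
    exact ⟨⟨x, (hg x).1 (by rw [hx]; exact y.2)⟩, congrArg π (Subtype.ext hx)⟩
  have hker : (cl K (n : ℤ)).toAddMonoidHom.ker = g.ker := by
    ext z
    refine (cl_eq_zero_iff K (n : ℤ) z).trans (Iff.trans ?_ (hπ0 _).symm)
    change _ ↔ ∃ w, B.d ((ComplexShape.up ℕ).prev n) n w = e n z.1
    rcases n with _ | m
    · have := h0 (((0 : ℕ) : ℤ) - 1) (by simp)
      rw [CochainComplex.prev_nat_zero]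
      constructor
      · rintro ⟨w, hw⟩
        refine ⟨0, ?_⟩
        rw [map_zero, ← hw, Subsingleton.elim w 0, map_zero, map_zero]
      · rintro ⟨w, hw⟩
        refine ⟨0, ?_⟩
        rw [map_zero]
        apply (he 0).1
        rw [map_zero, ← hw]
        exact (ConcreteCategory.congr_hom (B.shape 0 0 (by simp)) w).symm
    · rw [CochainComplex.prev_nat_succ]
      have hK : ∀ (i : ℤ) (_ : i = (m : ℤ)),
          (∃ w, K.d i ((m + 1 : ℕ) : ℤ) w = z.1) ↔ ∃ w, B.d m (m + 1) w = e (m + 1) z.1 := by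
        rintro i rfl
        constructor
        · rintro ⟨w, hw⟩
          exact ⟨e m w, by rw [← hd, hw]⟩
        · rintro ⟨w', hw⟩
          obtain ⟨w, rfl⟩ := (he m).2 w'
          exact ⟨w, (he (m + 1)).1 ((hd m w).trans hw)⟩
      exact hK _ (by simp)
  exact ⟨(QuotientAddGroup.quotientKerEquivOfSurjective _ (cl_surjective K (n : ℤ))).symm.trans
    ((QuotientAddGroup.quotientAddEquivOfEq hker).trans
      (QuotientAddGroup.quotientKerEquivOfSurjective g hgs))⟩

end Compare

end Groth.CohBase.Kunneth
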