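import Groth.Agent.CohBase.Kunneth.BiCechDerived
import Groth.Agent.CohBase.Kunneth.BoxSec
import Groth.Agent.CohBase.Kunneth.Trunc
import Groth.Agent.CohBase.CxModel

/-!
# The double Čech complex as a tensor product of Čech complexes
-/

set_option autoImplicit false

universe u

open CategoryTheory Limits AlgebraicGeometry TopologicalSpace Opposite HomologicalComplex
open scoped TensorProduct
open Groth.HTorLib (ι' dec decHom decHom_ι' d_ι')

namespace Groth.CohBase.Kunneth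

variable (A : Type u) [CommRing A] {X₁ X₂ P : Scheme.{u}}
  [X₁.Over (Spec (CommRingCat.of A))] [X₂.Over (Spec (CommRingCat.of A))]
  [P.Over (Spec (CommRingCat.of A))] (p₁ : P ⟶ X₁) (p₂ : P ⟶ X₂)
  [p₁.IsOver (Spec (CommRingCat.of A))] [p₂.IsOver (Spec (CommRingCat.of A))]
  (F₁ : X₁.Modules) (F₂ : X₂.Modules) {ι κ : Type u} (U : ι → X₁.Opens) (V : κ → X₂.Opens)

/-- The pulled back covering on the product, first factor. -/
abbrev pre₁ : ι → P.Opens := fun i => p₁ ⁻¹ᵁ U i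

/-- The pulled back covering on the product, second factor. -/
abbrev pre₂ : κ → P.Opens := fun l => p₂ ⁻¹ᵁ V l

omit [X₁.Over (Spec (CommRingCat.of A))] [X₂.Over (Spec (CommRingCat.of A))]
  [P.Over (Spec (CommRingCat.of A))] [p₁.IsOver (Spec (CommRingCat.of A))]
  [p₂.IsOver (Spec (CommRingCat.of A))] in
lemma tup_eq_box {p q : ℕ} (x : Fin (p + 1) → ι) (y : Fin (q + 1) → κ) :
    inter (X := P.toTopCat) (pre₁ p₁ U) x ⊓ inter (X := P.toTopCat) (pre₂ p₂ V) y =
      box p₁ p₂ (tupOpen U x) (tupOpen V y) :=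
  congrArg₂ (· ⊓ ·) (tupOpen_preimage p₁ x) (tupOpen_preimage p₂ y)

/-- The tensor product of two Čech cochains as a bi-cochain. -/
noncomputable def theta (p q : ℕ) :
    cxC A U F₁ p ⊗[A] cxC A V F₂ q →ₗ[A]
      ∀ (x : Fin (p + 1) → ι) (y : Fin (q + 1) → κ), secA A (extTen p₁ p₂ F₁ F₂)
        (inter (X := P.toTopCat) (pre₁ p₁ U) x ⊓ inter (X := P.toTopCat) (pre₂ p₂ V) y) :=
  LinearMap.pi fun x => LinearMap.pi fun y =>
    ((secRes A (extTen p₁ p₂ F₁ F₂) (tup_eq_box p₁ p₂ U V x y).le).comp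
      (boxSec A p₁ p₂ F₁ F₂ (tupOpen U x) (tupOpen V y))).comp
        (TensorProduct.map (LinearMap.proj (R := A) (φ := fun x => secA A F₁ (tupOpen U x)) x)
          (LinearMap.proj (R := A) (φ := fun y => secA A F₂ (tupOpen V y)) y))

lemma theta_tmul {p q : ℕ} (a : cxC A U F₁ p) (b : cxC A V F₂ q) (x : Fin (p + 1) → ι)
    (y : Fin (q + 1) → κ) : theta A p₁ p₂ F₁ F₂ U V p q (a ⊗ₜ b) x y =
      secRes A (extTen p₁ p₂ F₁ F₂) (tup_eq_box p₁ p₂ U V x y).le
        (boxSec A p₁ p₂ F₁ F₂ (tupOpen U x) (tupOpen V y) (a x ⊗ₜ b y)) := rfl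

/-- All intersections of the two coverings are affine and the square is cartesian. -/
structure Hyp : Prop where
  sq : IsPullback p₁ p₂ (X₁ ↘ Spec (CommRingCat.of A)) (X₂ ↘ Spec (CommRingCat.of A))
  affU : ∀ {n : ℕ} (x : Fin (n + 1) → ι), IsAffineOpen (tupOpen U x)
  affV : ∀ {n : ℕ} (x : Fin (n + 1) → κ), IsAffineOpen (tupOpen V x)

lemma theta_bijective [Finite ι] [Finite κ] [F₁.IsQuasicoherent] [F₂.IsQuasicoherent]
    (hh : Hyp A p₁ p₂ U V) (p q : ℕ) : Function.Bijective (theta A p₁ p₂ F₁ F₂ U V p q) := by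
  classical
  have := Fintype.ofFinite ι
  have := Fintype.ofFinite κ
  let φ := fun x : Fin (p + 1) → ι => (secA A F₁ (tupOpen U x) : Type u)
  let ψ := fun y : Fin (q + 1) → κ => (secA A F₂ (tupOpen V y) : Type u)
  let Θ := fun (x : Fin (p + 1) → ι) (y : Fin (q + 1) → κ) =>
    (secRes A (extTen p₁ p₂ F₁ F₂) (tup_eq_box p₁ p₂ U V x y).le).comp
      (boxSec A p₁ p₂ F₁ F₂ (tupOpen U x) (tupOpen V y))
  have hb : ∀ x y, Function.Bijective (Θ x y) := fun x y =>
    (qres_bijective_of_eq (extTen p₁ p₂ F₁ F₂) _ (tup_eq_box p₁ p₂ U V x y).ge).comp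
      (boxSec_bijective A p₁ p₂ F₁ F₂ hh.sq (hh.affU x) (hh.affV y))
  let pr := fun x y => TensorProduct.map (LinearMap.proj (R := A) (φ := φ) x)
    (LinearMap.proj (R := A) (φ := ψ) y)
  let sg := fun x y => TensorProduct.map (LinearMap.single A φ x) (LinearMap.single A ψ y)
  have hr : ∀ z, z = ∑ x, ∑ y, sg x y (pr x y z) := fun z => by
    induction z using TensorProduct.induction_on with
    | zero => simp
    | tmul a b =>
      simp only [sg, pr, TensorProduct.map_tmul, ← TensorProduct.tmul_sum,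
        ← TensorProduct.sum_tmul, LinearMap.coe_single, LinearMap.proj_apply]
      rw [Finset.univ_sum_single, Finset.univ_sum_single]
    | add a b ha hb =>
      conv_lhs => rw [ha, hb]
      simp only [map_add, Finset.sum_add_distrib]
  refine ⟨fun z w e => ?_, fun t => ?_⟩
  · have h : ∀ x y, pr x y z = pr x y w := fun x y => (hb x y).1 (congrFun (congrFun e x) y)
    rw [hr z, hr w]
    exact Finset.sum_congr rfl fun x _ => Finset.sum_congr rfl fun y _ => congrArg _ (h x y)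
  · choose c hc using fun x y => (hb x y).2 (t x y)
    refine ⟨∑ x, ∑ y, sg x y (c x y), funext fun x' => funext fun y' => ?_⟩
    change Θ x' y' (pr x' y' (∑ x, ∑ y, sg x y (c x y))) = _
    refine (congrArg (Θ x' y') ?_).trans (hc x' y')
    have key : ∀ x y, pr x' y' (sg x y (c x y)) =
        TensorProduct.map ((LinearMap.proj (R := A) (φ := φ) x').comp (LinearMap.single A φ x))
          ((LinearMap.proj (R := A) (φ := ψ) y').comp (LinearMap.single A ψ y)) (c x y) := fun x y =>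
      (LinearMap.congr_fun (TensorProduct.map_comp _ _ _ _) (c x y)).symm
    simp only [map_sum, key]
    rw [Finset.sum_eq_single x', Finset.sum_eq_single y']
    · rw [LinearMap.proj_comp_single_same, LinearMap.proj_comp_single_same, TensorProduct.map_id]
      rfl
    · intro y _ hy
      rw [LinearMap.proj_comp_single_ne A ψ y' y (Ne.symm hy)]
      simp
    · simp
    · intro x _ hx
      rw [LinearMap.proj_comp_single_ne A φ x' x (Ne.symm hx)]
      simp
    · simp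

lemma theta_d_left {p q : ℕ} (a : cxC A U F₁ p) (b : cxC A V F₂ q) (x : Fin (p + 2) → ι)
    (y : Fin (q + 1) → κ) :
    theta A p₁ p₂ F₁ F₂ U V (p + 1) q (cxD A U F₁ p a ⊗ₜ b) x y =
      dCoch (pre₁ p₁ U) (infR (extTen p₁ p₂ F₁ F₂).presheaf
        (inter (X := P.toTopCat) (pre₂ p₂ V) y)) p
          (fun x' => theta A p₁ p₂ F₁ F₂ U V p q (a ⊗ₜ b) x' y) x := by
  let G := (((secRes A (extTen p₁ p₂ F₁ F₂) (tup_eq_box p₁ p₂ U V x y).le).comp
    (boxSec A p₁ p₂ F₁ F₂ (tupOpen U x) (tupOpen V y))).comp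
      ((TensorProduct.mk A (secA A F₁ (tupOpen U x)) (secA A F₂ (tupOpen V y))).flip (b y)))
  refine (?_ : G (cxD A U F₁ p a x) = _)
  rw [cxD, LinearMap.pi_apply, LinearMap.sum_apply, map_sum, dCoch_apply]
  refine Finset.sum_congr rfl fun k _ => ?_
  refine (map_zsmul G _ _).trans (congrArg (((-1 : ℤ) ^ (k : ℕ)) • ·) ?_)
  have h := boxSec_res A p₁ p₂ F₁ F₂ (inter_comp (X := X₁.toTopCat) U x k.succAbove)
    (le_refl (tupOpen V y))
    (inf_le_inf_right _ (p₁.preimage_mono (inter_comp (X := X₁.toTopCat) U x k.succAbove)))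
    (a (x ∘ k.succAbove) ⊗ₜ b y)
  rw [TensorProduct.map_tmul, secRes_apply (A := A) (F := F₂), QCohMod.res_self] at h
  refine (congrArg (secRes A (extTen p₁ p₂ F₁ F₂) (tup_eq_box p₁ p₂ U V x y).le) h.symm).trans ?_
  exact (QCohMod.res_res (extTen p₁ p₂ F₁ F₂)
    (inf_le_inf_right _ (p₁.preimage_mono (inter_comp (X := X₁.toTopCat) U x k.succAbove)))
    (tup_eq_box p₁ p₂ U V x y).le _).trans
      (QCohMod.res_res (extTen p₁ p₂ F₁ F₂) (tup_eq_box p₁ p₂ U V (x ∘ k.succAbove) y).le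
        (inf_le_inf_right _ (inter_comp (X := P.toTopCat) (pre₁ p₁ U) x k.succAbove)) _).symm

lemma theta_d_right {p q : ℕ} (a : cxC A U F₁ p) (b : cxC A V F₂ q) (x : Fin (p + 1) → ι)
    (y : Fin (q + 2) → κ) :
    theta A p₁ p₂ F₁ F₂ U V p (q + 1) (a ⊗ₜ cxD A V F₂ q b) x y =
      dCoch (pre₂ p₂ V) (infL (extTen p₁ p₂ F₁ F₂).presheaf
        (inter (X := P.toTopCat) (pre₁ p₁ U) x)) q
          (fun y' => theta A p₁ p₂ F₁ F₂ U V p q (a ⊗ₜ b) x y') y := by
  let G := (((secRes A (extTen p₁ p₂ F₁ F₂) (tup_eq_box p₁ p₂ U V x y).le).comp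
    (boxSec A p₁ p₂ F₁ F₂ (tupOpen U x) (tupOpen V y))).comp
      ((TensorProduct.mk A (secA A F₁ (tupOpen U x)) (secA A F₂ (tupOpen V y))) (a x)))
  refine (?_ : G (cxD A V F₂ q b y) = _)
  rw [cxD, LinearMap.pi_apply, LinearMap.sum_apply, map_sum, dCoch_apply]
  refine Finset.sum_congr rfl fun k _ => ?_
  refine (map_zsmul G _ _).trans (congrArg (((-1 : ℤ) ^ (k : ℕ)) • ·) ?_)
  have h := boxSec_res A p₁ p₂ F₁ F₂ (le_refl (tupOpen U x))
    (inter_comp (X := X₂.toTopCat) V y k.succAbove)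
    (inf_le_inf_left _ (p₂.preimage_mono (inter_comp (X := X₂.toTopCat) V y k.succAbove)))
    (a x ⊗ₜ b (y ∘ k.succAbove))
  rw [TensorProduct.map_tmul, secRes_apply (A := A) (F := F₁), QCohMod.res_self] at h
  refine (congrArg (secRes A (extTen p₁ p₂ F₁ F₂) (tup_eq_box p₁ p₂ U V x y).le) h.symm).trans ?_
  exact (QCohMod.res_res (extTen p₁ p₂ F₁ F₂)
    (inf_le_inf_left _ (p₂.preimage_mono (inter_comp (X := X₂.toTopCat) V y k.succAbove)))
    (tup_eq_box p₁ p₂ U V x y).le _).trans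
      (QCohMod.res_res (extTen p₁ p₂ F₁ F₂) (tup_eq_box p₁ p₂ U V x (y ∘ k.succAbove)).le
        (inf_le_inf_left _ (inter_comp (X := P.toTopCat) (pre₂ p₂ V) y k.succAbove)) _).symm

/-- The tensor product of the two Čech complexes. -/
noncomputable abbrev tenCx : DRing.Cx A := HTor.tensorCx (cxA A U F₁) (cxA A V F₂)

/-- The comparison with the double Čech complex. -/
noncomputable def psiT (n : ℕ) : (tenCx A F₁ F₂ U V).X (n : ℤ) →+
    BT (X := P.toTopCat) (pre₁ p₁ U) (pre₂ p₂ V) (extTen p₁ p₂ F₁ F₂).presheaf n :=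
  AddMonoidHom.mk' (fun z p q h x y => theta A p₁ p₂ F₁ F₂ U V p q
      (restrictNat A (fun ij : HTor.Antidiag (n : ℤ) =>
          ((cxA A U F₁).X ij.1.1 ⊗[A] (cxA A V F₂).X ij.1.2 : Type u))
        (dec (cxA A U F₁) (cxA A V F₂) n z) ⟨(p, q), Finset.HasAntidiagonal.mem_antidiagonal.2 h.down⟩) x y)
    fun a b => by
      funext p q h x y
      let R := (restrictNat A (fun ij : HTor.Antidiag (n : ℤ) =>
          ((cxA A U F₁).X ij.1.1 ⊗[A] (cxA A V F₂).X ij.1.2 : Type u))).comp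
        (dec (cxA A U F₁) (cxA A V F₂) n).toLinearMap
      exact congrFun (congrFun ((congrArg (theta A p₁ p₂ F₁ F₂ U V p q)
        (congrFun (map_add R a b) _)).trans (map_add (theta A p₁ p₂ F₁ F₂ U V p q) _ _)) x) y

lemma psiT_apply (n p q : ℕ) (h : PLift (p + q = n)) (z : (tenCx A F₁ F₂ U V).X (n : ℤ))
    (x : Fin (p + 1) → ι) (y : Fin (q + 1) → κ) :
    psiT A p₁ p₂ F₁ F₂ U V n z p q h x y = theta A p₁ p₂ F₁ F₂ U V p q
      (DirectSum.component A (HTor.Antidiag (n : ℤ))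
          (fun ij => ((cxA A U F₁).X ij.1.1 ⊗[A] (cxA A V F₂).X ij.1.2 : Type u))
          (toZ ⟨(p, q), Finset.HasAntidiagonal.mem_antidiagonal.2 h.down⟩)
        (dec (cxA A U F₁) (cxA A V F₂) n z)) x y := rfl

lemma psiT_ι'_self (n p q : ℕ) (h : PLift (p + q = n)) (hpq : (p : ℤ) + q = n)
    (t : cxC A U F₁ p ⊗[A] cxC A V F₂ q) (x : Fin (p + 1) → ι) (y : Fin (q + 1) → κ) :
    psiT A p₁ p₂ F₁ F₂ U V n (ι' (cxA A U F₁) (cxA A V F₂) (p : ℤ) (q : ℤ) n hpq t) p q h x y =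
      theta A p₁ p₂ F₁ F₂ U V p q t x y := by
  classical
  rw [psiT_apply]
  refine congrFun (congrFun (congrArg (theta A p₁ p₂ F₁ F₂ U V p q) ?_) x) y
  refine (congrArg (DirectSum.component A _ _ _)
    (decHom_ι' (cxA A U F₁) (cxA A V F₂) (p : ℤ) (q : ℤ) n hpq t)).trans ?_
  exact DirectSum.component.lof_self A (M := fun ij : HTor.Antidiag (n : ℤ) =>
    ((cxA A U F₁).X ij.1.1 ⊗[A] (cxA A V F₂).X ij.1.2 : Type u))
    (⟨((p : ℤ), (q : ℤ)), hpq⟩ : HTor.Antidiag (n : ℤ)) t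

lemma psiT_ι'_ne (n p q : ℕ) (h : PLift (p + q = n)) (i j : ℤ) (hij : i + j = n)
    (hne : ¬(i = p ∧ j = q)) (t : (cxA A U F₁).X i ⊗[A] (cxA A V F₂).X j)
    (x : Fin (p + 1) → ι) (y : Fin (q + 1) → κ) :
    psiT A p₁ p₂ F₁ F₂ U V n (ι' (cxA A U F₁) (cxA A V F₂) i j n hij t) p q h x y = 0 := by
  classical
  rw [psiT_apply]
  refine (congrFun (congrFun (congrArg (theta A p₁ p₂ F₁ F₂ U V p q) ?_) x) y).trans
    (congrFun (congrFun (map_zero (theta A p₁ p₂ F₁ F₂ U V p q)) x) y)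
  refine (congrArg (DirectSum.component A _ _ _)
    (decHom_ι' (cxA A U F₁) (cxA A V F₂) i j n hij t)).trans ?_
  rw [DirectSum.component.of]
  exact dif_neg fun e => hne ⟨congrArg (fun v : HTor.Antidiag (n : ℤ) => v.1.1) e,
    congrArg (fun v : HTor.Antidiag (n : ℤ) => v.1.2) e⟩

lemma subsingleton_cxA {X : Scheme.{u}} [X.Over (Spec (CommRingCat.of A))] {τ : Type u}
    (W : τ → X.Opens) (F : X.Modules) {i : ℤ} (hi : i < 0) :
    Subsingleton ((cxA A W F).X i) :=
  ModuleCat.subsingleton_of_isZero (isZero_cxA_of_neg A W F hi)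

lemma psiT_bijective [Finite ι] [Finite κ] [F₁.IsQuasicoherent] [F₂.IsQuasicoherent]
    (hh : Hyp A p₁ p₂ U V) (n : ℕ) : Function.Bijective (psiT A p₁ p₂ F₁ F₂ U V n) := by
  let W := fun ij : HTor.Antidiag (n : ℤ) =>
    ((cxA A U F₁).X ij.1.1 ⊗[A] (cxA A V F₂).X ij.1.2 : Type u)
  have hR : Function.Bijective (restrictNat A W) := restrictNat_bijective W fun ij hij => by
    rcases hij with hi | hi
    · have := subsingleton_cxA A U F₁ hi; infer_instance
    · have := subsingleton_cxA A V F₂ hi; infer_instance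
  have hd := (dec (cxA A U F₁) (cxA A V F₂) n).bijective
  refine ⟨fun z w e => hd.1 (hR.1 (funext fun pq => ?_)), fun s => ?_⟩
  · obtain ⟨⟨p, q⟩, hpq⟩ := pq
    refine (theta_bijective A p₁ p₂ F₁ F₂ U V hh p q).1 (funext fun x => funext fun y => ?_)
    exact congrFun (congrFun (congrFun (congrFun (congrFun e p) q)
      ⟨Finset.HasAntidiagonal.mem_antidiagonal.1 hpq⟩) x) y
  · choose c hc using fun pq : Finset.HasAntidiagonal.antidiagonal n =>
      (theta_bijective A p₁ p₂ F₁ F₂ U V hh pq.1.1 pq.1.2).2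
        (s pq.1.1 pq.1.2 ⟨Finset.HasAntidiagonal.mem_antidiagonal.1 pq.2⟩)
    obtain ⟨w, hw⟩ := hR.2 c
    obtain ⟨z, hz⟩ := hd.2 w
    refine ⟨z, ?_⟩
    funext p q h x y
    have h1 : restrictNat A W (dec (cxA A U F₁) (cxA A V F₂) n z)
        ⟨(p, q), Finset.HasAntidiagonal.mem_antidiagonal.2 h.down⟩ = c ⟨(p, q), Finset.HasAntidiagonal.mem_antidiagonal.2 h.down⟩ := by
      rw [hz, hw]
    refine (congrFun (congrFun (congrArg (theta A p₁ p₂ F₁ F₂ U V p q) h1) x) y).trans ?_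
    exact congrFun (congrFun (hc ⟨(p, q), Finset.HasAntidiagonal.mem_antidiagonal.2 h.down⟩) x) y

lemma cxA_d' {X : Scheme.{u}} [X.Over (Spec (CommRingCat.of A))] {τ : Type u}
    (W : τ → X.Opens) (F : X.Modules) (p : ℕ) (a : cxC A W F p) :
    (cxA A W F).d (p : ℤ) ((p : ℤ) + 1) a = cxD A W F p a :=
  LinearMap.congr_fun (congrArg ModuleCat.Hom.hom (cxA_d A W F p)) a

lemma psiT_d (n : ℕ) (z : (tenCx A F₁ F₂ U V).X (n : ℤ)) :
    psiT A p₁ p₂ F₁ F₂ U V (n + 1) ((tenCx A F₁ F₂ U V).d (n : ℤ) ((n + 1 : ℕ) : ℤ) z) =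
      dT (X := P.toTopCat) (pre₁ p₁ U) (pre₂ p₂ V) (extTen p₁ p₂ F₁ F₂).presheaf n
        (psiT A p₁ p₂ F₁ F₂ U V n z) := by
  induction z using Groth.HTorLib.tensorCx_induction with
  | h0 => rw [map_zero, map_zero, map_zero, map_zero]
  | hadd a b ha hb => rw [map_add, map_add, ha, hb, map_add, map_add]
  | hι i j hij a b =>
    by_cases hi : i < 0
    · have := subsingleton_cxA A U F₁ hi
      rw [Subsingleton.elim a 0, TensorProduct.zero_tmul, map_zero, map_zero, map_zero, map_zero,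
        map_zero]
    by_cases hj : j < 0
    · have := subsingleton_cxA A V F₂ hj
      rw [Subsingleton.elim b 0, TensorProduct.tmul_zero, map_zero, map_zero, map_zero, map_zero,
        map_zero]
    obtain ⟨i, rfl⟩ : ∃ p : ℕ, i = p := ⟨i.toNat, by omega⟩
    obtain ⟨j, rfl⟩ : ∃ q : ℕ, j = q := ⟨j.toNat, by omega⟩
    rw [d_ι' (cxA A U F₁) (cxA A V F₂) (i : ℤ) (j : ℤ) (n : ℤ) hij ((n + 1 : ℕ) : ℤ) (by omega),
      map_add, map_zsmul, Int.coe_negOnePow_natCast]
    funext p q h x y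
    rw [dT_apply, Pi.add_apply, Pi.add_apply, Pi.add_apply, Pi.add_apply, Pi.add_apply,
      Pi.smul_apply, Pi.smul_apply, Pi.smul_apply, Pi.smul_apply, Pi.smul_apply]
    have hn := h.down
    congr 1
    · match p with
      | 0 =>
        exact psiT_ι'_ne A p₁ p₂ F₁ F₂ U V (n + 1) 0 q h _ _ _ (fun e => by omega) _ x y
      | p + 1 =>
        by_cases e : p = i ∧ q = j
        · obtain ⟨rfl, rfl⟩ := e
          refine (psiT_ι'_self A p₁ p₂ F₁ F₂ U V (n + 1) (p + 1) q h _ _ x y).trans ?_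
          rw [cxA_d']
          refine (theta_d_left A p₁ p₂ F₁ F₂ U V a b x y).trans ?_
          exact congrFun (congrArg (dCoch _ _ p) (funext fun x' =>
            (psiT_ι'_self A p₁ p₂ F₁ F₂ U V n p q ⟨by omega⟩ hij (a ⊗ₜ b) x' y).symm)) x
        · refine (psiT_ι'_ne A p₁ p₂ F₁ F₂ U V (n + 1) (p + 1) q h _ _ _ (fun e' => by omega)
            _ x y).trans ?_
          have hz : rowC (psiT A p₁ p₂ F₁ F₂ U V n (ι' (cxA A U F₁) (cxA A V F₂) (i : ℤ) (j : ℤ)
              n hij (a ⊗ₜ b))) p q (by omega) y = 0 := funext fun x' =>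
            psiT_ι'_ne A p₁ p₂ F₁ F₂ U V n p q ⟨by omega⟩ _ _ hij (fun e' => by omega)
              (a ⊗ₜ b) x' y
          exact ((congrFun (congrArg (dCoch _ _ p) hz) x).trans
            (congrFun (map_zero (dCoch _ _ p)) x)).symm
    · match q with
      | 0 =>
        rw [psiT_ι'_ne A p₁ p₂ F₁ F₂ U V (n + 1) p 0 h _ _ _ (fun e => by omega) _ x y]
        simp [vPart]
      | q + 1 =>
        by_cases e : p = i ∧ q = j
        · obtain ⟨rfl, rfl⟩ := e
          refine congrArg (((-1 : ℤ) ^ p) • ·) ?_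
          refine (psiT_ι'_self A p₁ p₂ F₁ F₂ U V (n + 1) p (q + 1) h _ _ x y).trans ?_
          rw [cxA_d']
          refine (theta_d_right A p₁ p₂ F₁ F₂ U V a b x y).trans ?_
          exact congrFun (congrArg (dCoch _ _ q) (funext fun y' =>
            (psiT_ι'_self A p₁ p₂ F₁ F₂ U V n p q ⟨by omega⟩ hij (a ⊗ₜ b) x y').symm)) y
        · rw [psiT_ι'_ne A p₁ p₂ F₁ F₂ U V (n + 1) p (q + 1) h _ _ _ (fun e' => by omega) _ x y,
            smul_zero]
          refine (smul_eq_zero_of_right _ ?_).symm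
          have hz : colC (psiT A p₁ p₂ F₁ F₂ U V n (ι' (cxA A U F₁) (cxA A V F₂) (i : ℤ) (j : ℤ)
              n hij (a ⊗ₜ b))) p q (by omega) x = 0 := funext fun y' =>
            psiT_ι'_ne A p₁ p₂ F₁ F₂ U V n p q ⟨by omega⟩ _ _ hij (fun e' => by omega)
              (a ⊗ₜ b) x y'
          exact (congrFun (congrArg (dCoch _ _ q) hz) y).trans
            (congrFun (map_zero (dCoch _ _ q)) y)

/-- The tensor product of the Čech complexes computes the cohomology of the external tensor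
product. -/
theorem nonempty_homology_tenCx_equiv_HH [Finite ι] [Finite κ] [F₁.IsQuasicoherent]
    [F₂.IsQuasicoherent] (hh : Hyp A p₁ p₂ U V) (hU : ⨆ i, U i = ⊤) (hV : ⨆ l, V l = ⊤) (n : ℕ) :
    Nonempty (((tenCx A F₁ F₂ U V).homology (n : ℤ) : Type u) ≃+
      Coh.HH P (extTen p₁ p₂ F₁ F₂) n) := by
  obtain ⟨e₁⟩ := nonempty_homology_equiv_of_nat
    (B := biCx (X := P.toTopCat) (pre₁ p₁ U) (pre₂ p₂ V) (extTen p₁ p₂ F₁ F₂).presheaf)
    (psiT A p₁ p₂ F₁ F₂ U V) (psiT_bijective A p₁ p₂ F₁ F₂ U V hh)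
    (fun i hi => by
      refine subsingleton_of_forall_eq 0 fun z => ?_
      induction z using Groth.HTorLib.tensorCx_induction with
      | h0 => rfl
      | hadd a b ha hb => rw [ha, hb, add_zero]
      | hι a b h s t =>
        by_cases ha : a < 0
        · have := subsingleton_cxA A U F₁ ha
          rw [Subsingleton.elim s 0, TensorProduct.zero_tmul, map_zero]
        · have := subsingleton_cxA A V F₂ (i := b) (by omega)
          rw [Subsingleton.elim t 0, TensorProduct.tmul_zero, map_zero])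
    (fun m x => (psiT_d A p₁ p₂ F₁ F₂ U V m x).trans
      (ConcreteCategory.congr_hom (biCx_d (X := P.toTopCat) (pre₁ p₁ U) (pre₂ p₂ V)
        (extTen p₁ p₂ F₁ F₂).presheaf m) _).symm) n
  have := QCohMod.isQCoh_pullback_obj p₁ F₁
  have := QCohMod.isQCoh_pullback_obj p₂ F₂
  have : (extTen p₁ p₂ F₁ F₂).IsQuasicoherent := QCohMod.isQCoh_tensorMod
  obtain ⟨e₂⟩ := nonempty_biCech_equiv_H' (X := P.toTopCat) (U := pre₁ p₁ U) (V := pre₂ p₂ V)
    (preimage_iSup_eq_top p₁ hU) (preimage_iSup_eq_top p₂ hV) n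
    (abSheaf (extTen p₁ p₂ F₁ F₂)) fun p q x y m => by
      refine hVanish_of_isAffineOpen (extTen p₁ p₂ F₁ F₂) ?_ m
      rw [tup_eq_box p₁ p₂ U V x y]
      exact isAffineOpen_box A p₁ p₂ hh.sq (hh.affU x) (hh.affV y)
  exact ⟨e₁.trans (e₂.trans (equivHTop (X := P.toTopCat) (abSheaf (extTen p₁ p₂ F₁ F₂)) n).symm)⟩

end Groth.CohBase.Kunneth
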